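import Cfsg.Agent.Lib.Glauberman.Norm
import Cfsg.Agent.Lib.Glauberman.FunctorPower
import Cfsg.Agent.Lib.Fusion.FactorModel
import Cfsg.Agent.Lib.Fusion.SectionFree
import Cfsg.Agent.Lib.Fusion.Nilpotency

/-! The Thompson subgroup as a characteristic functor. (helper6) -/

set_option autoImplicit false
set_option linter.unusedSectionVars false
set_option linter.style.haveILetI false

namespace CfsgLib.Glauberman

open Cfsg Cfsg.FusionSystem CfsgLib.ThompsonNPC CfsgLib.Fusion

universe u

variable {p : ℕ} [Fact p.Prime]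

/-- The Thompson subgroup of abelian subgroups of largest order, as a functor. -/
def JW (Q : Type u) [Group Q] : Subgroup Q := J 0 (⊤ : Subgroup Q)

theorem JW_ne_bot (Q : Type u) [Group Q] [Finite Q] (hQ : IsPGroup p Q) (hne : Nontrivial Q) : JW Q ≠ ⊥ := by
  refine J_ne_bot (p := p) (dvd_zero p) (hQ.to_subgroup _) fun h => ?_
  exact (not_subsingleton Q) (Subgroup.subsingleton_iff.mp (subsingleton_of_bot_eq_top h.symm))

theorem JW_map (Q R : Type u) [Group Q] [Group R] (φ : Q ≃* R) : (JW Q).map φ.toMonoidHom = JW R := by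
  rw [JW, JW, J_map 0 (injOn_of_injective (f := φ.toMonoidHom) φ.injective _), ← MonoidHom.range_eq_map,
    MonoidHom.range_eq_top.mpr φ.surjective]

theorem ind_JW {Ω : Type u} [Group Ω] (T : Subgroup Ω) : ind JW T = J 0 T := by
  rw [ind, JW, J_map 0 (injOn_of_injective T.subtype_injective _), ← MonoidHom.range_eq_map, Subgroup.range_subtype]

/-- Systems for an odd prime or without sections `Sym(4)`. -/
def s4Class : FusClass.{u} (p := p) where
  Cl F := p ≠ 2 ∨ F.IsSectionFree p (Equiv.Perm (Fin 4))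
  free_normalizer _ hS hF h _ hQ N hN := h.imp_right fun h => sectionFree_normalizer p hS hF h hQ N hN
  free_factor _ hS hF h _ hQ _ _ _ _ _ hE := h.imp_right fun h => sectionFree_factor p hS hF hQ h hE

/-- Elements of any kind. -/
def anyGood : GoodProp.{u} := ⟨fun _ _ => True, fun _ _ _ _ _ _ _ _ => trivial, fun _ _ _ _ _ _ => trivial⟩

/-- Quadratic elements outside `O_p` when the Thompson subgroup is not normal. -/
theorem exists_quadratic_of_not_normal {G : Type u} [Group G] [Finite G] (P : Sylow p G)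
    (h : ¬ (J 0 (P : Subgroup G)).Normal) : ∃ g : G, g ∈ (P : Subgroup G) ∧ g ∉ Cfsg.pCore p G ∧
      ⁅⁅Subgroup.center ↥(Cfsg.pCore p G) |>.map (Cfsg.pCore p G).subtype, Subgroup.zpowers g⁆, Subgroup.zpowers g⁆ = ⊥ := by
  set Q := Cfsg.pCore p G
  haveI : Q.Normal := Cfsg.pCore_normal p G
  have hQP : Q ≤ (P : Subgroup G) := CfsgLib.Core.pCore_le_sylow P
  set V := (Subgroup.center ↥Q).map Q.subtype
  haveI : ((V.subgroupOf Q)).Characteristic := by
    rw [show V.subgroupOf Q = Subgroup.center ↥Q from Subgroup.comap_map_eq_self_of_injective Q.subtype_injective _]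
    infer_instance
  haveI : V.Normal := by
    have := ConjAct.normal_of_characteristic_of_normal (H := Q) (K := Subgroup.center ↥Q)
    exact this
  have hA : ∃ A ∈ maxAb 0 (P : Subgroup G), ¬ A ≤ Q := by
    by_contra hc
    push Not at hc
    refine h ?_
    rw [← J_eq_of_forall_le hQP hc]
    exact Subgroup.normalizer_eq_top_iff.mp (top_le_iff.mp
      ((Subgroup.normalizer_eq_top_iff.mpr inferInstance).ge.trans (normalizer_le_normalizer_J 0 Q)))
  obtain ⟨A, hA', hAQ, hquad⟩ := exists_quadratic_maxAb P (V := V) (Subgroup.map_subtype_le _) hQP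
    (by rintro _ ⟨v, hv, rfl⟩ q hq; exact congrArg Subtype.val (Subgroup.mem_center_iff.mp hv ⟨q, hq⟩)) hA
  obtain ⟨g, hg, hgQ⟩ := SetLike.not_le_iff_exists.mp hAQ
  exact ⟨g, hA'.1 hg, hgQ, le_bot_iff.mp (hquad ▸ Subgroup.commutator_mono
    (Subgroup.commutator_mono le_rfl (Subgroup.zpowers_le.mpr hg)) (Subgroup.zpowers_le.mpr hg))⟩

/-- The local condition for `p`-th powers. -/
theorem centerCondition_pow : CenterCondition (p := p) JW.{u} (powGood (p := p)).Good := by
  rintro G _ _ P z hc _ _ ⟨x, hx, hxc, rfl⟩ hzN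
  refine center_of_quadratic JW (fun Q R _ _ _ _ φ => JW_map Q R φ) ?_ _ G rfl P x hc hx hxc hzN
  intro G _ _ P h
  exact exists_quadratic_of_not_normal P (fun h' => h ((ind_JW (P : Subgroup G)).symm ▸ h' : (ind JW (P : Subgroup G)).Normal))

/-- The local condition for `p` odd or no sections `Sym(4)`. -/
theorem centerCondition_s4 : CenterConditionIn JW.{u} (s4Class (p := p)) anyGood.Good := by
  intro Ω _ S _ F hS hcon hCl G _ _ ι hL P z _ hzO hzP _ hzN
  refine mem_center_of_normalizer_J _ _ rfl ?_ P z rfl hzO hzP fun n hn => hzN n ?_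
  · exact hCl.imp_right fun h => s4Free_of_not_involves (not_involves_of_model hcon hL h)
  · show n ∈ Subgroup.normalizer (ind JW (P : Subgroup G) : Set G)
    rw [ind_JW]; exact hn

end CfsgLib.Glauberman
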