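import Cfsg.Agent.S1993
import Cfsg.Agent.Lib.Glauberman.FunctorFocal
import Cfsg.Agent.Lib.Fusion.SectionFree

/-! A proper focal subgroup from a `p`-group automizer, `p ≥ 5`. (helper6) -/

set_option autoImplicit false
set_option linter.unusedSectionVars false
set_option linter.style.haveILetI false

universe u

namespace CfsgLib.Glauberman

open Cfsg Cfsg.FusionSystem CfsgLib.Fusion
open scoped commutatorElement

variable {p : ℕ} [Fact p.Prime]

theorem lt_of_lower_central {G : Type*} [Group G] {T : Subgroup G} [Finite ↥T] (hT : IsPGroup p ↥T) (hne : T ≠ ⊥) :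
    ⁅T, T⁆ < T := by
  refine lt_of_le_of_ne (Subgroup.commutator_le.mpr fun x hx y hy =>
    T.mul_mem (T.mul_mem (T.mul_mem hx hy) (T.inv_mem hx)) (T.inv_mem hy)) fun h => hne ?_
  haveI : Group.IsNilpotent ↥T := hT.isNilpotent
  obtain ⟨n, hn⟩ := Subgroup.nilpotent_iff_lowerCentralSeries.mp (inferInstance : Group.IsNilpotent ↥T)
  have hbot : T.lowerCentralSeries n = ⊥ := by
    rw [← Subgroup.top_subtype_lowerCentralSeries, hn, Subgroup.map_bot]
  refine le_bot_iff.mp (hbot ▸ ?_)
  clear hn hbot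
  induction n with
  | zero => exact le_rfl
  | succ i ih =>
    rw [Subgroup.lowerCentralSeries_succ]
    exact h.ge.trans (Subgroup.commutator_mono ih le_rfl)

/-- For `p ≥ 5` the commutator subgroup misses part of a Sylow subgroup normalized only by a `p`-group of
automorphisms. -/
theorem sylow_not_le_commutator (hp : 5 ≤ p) : ∀ (n : ℕ) (G : Type u) [Group G] [Finite G], Nat.card G = n →
    ∀ T : Sylow p G, (T : Subgroup G) ≠ ⊥ →
      (∀ g ∈ Subgroup.normalizer ((T : Subgroup G) : Set G), (orderOf g).Coprime p →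
        g ∈ Subgroup.centralizer ((T : Subgroup G) : Set G)) → ¬ (T : Subgroup G) ≤ commutator G := by
  intro n
  induction n using Nat.strong_induction_on with
  | _ n ih =>
  intro G _ _ hn T hT hA hle
  by_cases hnT : (T : Subgroup G).Normal
  · -- the product of `T` and its centralizer
    have h1 : (T : Subgroup G) ≤ Subgroup.focalSubgroup (T : Subgroup G) := fun x hx => by
      rw [← Subgroup.commutator_inf_eq_focalSubgroup T]
      exact ⟨hle hx, hx⟩
    refine (lt_of_lower_central T.2 hT).not_ge (h1.trans ?_)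
    rw [Subgroup.focalSubgroup_def, Subgroup.closure_le]
    rintro _ ⟨-, a, ha, u, rfl⟩
    obtain ⟨s, b, -, -, hsb, ⟨k, hk⟩, hbc⟩ := CfsgLib.ThompsonNPC.exists_mul_parts p u
    have hs : IsPGroup p ↥(Subgroup.zpowers s) := by
      obtain ⟨l, -, hl⟩ := (Nat.dvd_prime_pow Fact.out).mp (orderOf_dvd_of_pow_eq_one hk)
      exact IsPGroup.of_card (n := l) (by rw [Nat.card_zpowers, hl])
    haveI := hnT
    have hsT : s ∈ (T : Subgroup G) :=
      (T.is_maximal' (IsPGroup.to_sup_of_normal_right hs T.2) le_sup_right).le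
        (Subgroup.mem_sup_left (Subgroup.mem_zpowers s))
    have hbC := Subgroup.mem_centralizer_iff.mp
      (hA b (by rw [Subgroup.normalizer_eq_top_iff.mpr hnT]; trivial) hbc) a ha
    rw [← hsb, show ⁅a, s * b⁆ = ⁅a, s⁆ * (s * (a * b * a⁻¹ * b⁻¹) * s⁻¹) by simp [commutatorElement_def, mul_assoc],
      hbC, mul_inv_cancel_right, mul_inv_cancel, mul_one, mul_inv_cancel, mul_one]
    exact Subgroup.commutator_mem_commutator ha hsT
  haveI hQn : (pCore p G).Normal := by
    have := CfsgLib.Core.pCore_characteristic (G := G) p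
    infer_instance
  by_cases hQ : pCore p G = ⊥
  · -- the normalizer of K-infinity is proper
    set W := inducedFunctor kInfUpper (T : Subgroup G) with hW
    set N := Subgroup.normalizer (W : Set G)
    have hTN : (T : Subgroup G) ≤ N := Subgroup.le_normalizer.trans
      (le_normalizer_of_characteristic (ind_le kInfUpper _)
        (ind_characteristic kInfUpper CfsgLib.KInfStable.charP_upper.2 _ T.2))
    have hWne : W ≠ ⊥ := by
      haveI : Nontrivial ↥(T : Subgroup G) := (Subgroup.nontrivial_iff_ne_bot _).mpr hT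
      intro h
      exact CfsgLib.KInfStable.charP_upper.1 _ T.2 inferInstance
        ((Subgroup.map_eq_bot_iff_of_injective _ (Subgroup.subtype_injective _)).mp h)
    have hNne : N ≠ ⊤ := fun h => hWne (le_bot_iff.mp (hQ ▸ CfsgLib.Core.le_pCore (Subgroup.normalizer_eq_top_iff.mp h)
      (T.2.to_le (Subgroup.map_subtype_le _))))
    refine ih (Nat.card ↥N) (hn ▸ lt_of_le_of_ne (Subgroup.card_le_card_group N) fun h =>
      hNne (Subgroup.eq_top_of_card_eq _ h)) ↥N rfl (T.subtype hTN) (fun h => hT ?_) (fun g hg hgc => ?_) ?_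
    · rw [eq_bot_iff]
      intro x hx
      exact Subgroup.mem_bot.mpr (congrArg Subtype.val (Subgroup.mem_bot.mp (h.le (show (⟨x, hTN hx⟩ : ↥N) ∈ _ from hx))))
    · have h := hA g (Subgroup.mem_normalizer_fintype fun x hx => by
        exact (Subgroup.mem_normalizer_iff.mp hg ⟨x, hTN hx⟩).mp hx) (by rwa [Subgroup.orderOf_coe])
      exact Subgroup.mem_centralizer_iff.mpr fun y hy => Subtype.ext (Subgroup.mem_centralizer_iff.mp h y hy)
    · intro x hx
      have h2 : (x : G) ∈ ⁅N, N⁆ := ((((Cfsg.Agent.S1993.result T).1 hp).le ⟨hx, hle hx⟩)).2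
      rw [← Subgroup.map_subtype_commutator] at h2
      obtain ⟨y, hy, hye⟩ := h2
      rwa [show x = y from Subtype.ext hye.symm]
  · -- the quotient by `O_p`
    set π := QuotientGroup.mk' (pCore p G)
    have hπ : Function.Surjective π := QuotientGroup.mk'_surjective _
    have hQT := CfsgLib.Core.pCore_le_sylow (p := p) T
    have hcomap : ((T : Subgroup G).map π).comap π = T := by
      rw [Subgroup.comap_map_eq, QuotientGroup.ker_mk', sup_eq_left.mpr hQT]
    refine ih (Nat.card (G ⧸ pCore p G)) (hn ▸ ?_) (G ⧸ pCore p G) rfl (T.mapSurjective hπ) (fun h => hnT ?_)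
      (fun g hg hgc => ?_) ?_
    · have h1 := Subgroup.card_eq_card_quotient_mul_card_subgroup (pCore p G)
      have h2 : 1 < Nat.card ↥(pCore p G) := (Subgroup.one_lt_card_iff_ne_bot _).mpr hQ
      have h3 : 0 < Nat.card (G ⧸ pCore p G) := Nat.card_pos
      nlinarith
    · have h' : (T : Subgroup G).map π = ⊥ := h
      rw [Subgroup.map_eq_bot_iff, QuotientGroup.ker_mk'] at h'
      exact le_antisymm h' hQT ▸ hQn
    · obtain ⟨g, rfl⟩ := hπ g
      have hgN : g ∈ Subgroup.normalizer ((T : Subgroup G) : Set G) := Subgroup.mem_normalizer_fintype fun x hx => by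
        show g * x * g⁻¹ ∈ (T : Subgroup G)
        rw [← hcomap]
        show π (g * x * g⁻¹) ∈ (T : Subgroup G).map π
        rw [map_mul, map_mul, map_inv]
        exact (Subgroup.mem_normalizer_iff.mp hg _).mp ⟨x, hx, rfl⟩
      obtain ⟨i, m, hpm, hm⟩ := Nat.exists_eq_pow_mul_and_not_dvd (orderOf_pos g).ne' p (Fact.out : p.Prime).one_lt.ne'
      have hco : (orderOf (g ^ p ^ i)).Coprime p := by
        rw [orderOf_pow, hm, Nat.gcd_eq_right (Dvd.intro _ rfl), Nat.mul_div_cancel_left _ (pow_pos (Fact.out : p.Prime).pos i)]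
        exact (((Fact.out : p.Prime).coprime_iff_not_dvd).mpr hpm).symm
      have hC := hA (g ^ p ^ i) (pow_mem hgN _) hco
      have hmem : π g ∈ Subgroup.zpowers ((π g) ^ p ^ i) := by
        obtain ⟨s, hs⟩ := exists_pow_eq_self_of_coprime (hgc.symm.pow_left i)
        exact ⟨s, by show (π g ^ p ^ i) ^ (s : ℤ) = π g; rw [zpow_natCast]; exact hs⟩
      obtain ⟨j, hj⟩ := Subgroup.mem_zpowers_iff.mp hmem
      rw [← hj, ← map_pow]
      refine Subgroup.zpow_mem _ (Subgroup.mem_centralizer_iff.mpr ?_) j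
      rintro _ ⟨x, hx, rfl⟩
      rw [← map_mul, ← map_mul, Subgroup.mem_centralizer_iff.mp hC x hx]
    · rintro _ ⟨x, hx, rfl⟩
      have h2 : π x ∈ (commutator G).map π := ⟨x, hle hx, rfl⟩
      rw [commutator_def] at h2 ⊢
      rw [Subgroup.map_commutator, Subgroup.map_top_of_surjective π hπ] at h2
      exact h2

variable {Ω : Type u} [Group Ω] {S : Subgroup Ω} [Finite ↥S] {F : FusionSystem S}

/-- The focal subgroup of a constrained system with a `p`-group automizer is proper, `p ≥ 5`. -/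
theorem focal_lt_of_constrained (hp : 5 ≤ p) (hS : IsPGroup p ↥S) (hne : S ≠ ⊥) (hcon : F.IsConstrained p)
    (haut : ∀ α ∈ F.autGroup S, (orderOf α).Coprime p → α = 1) : ¬ S ≤ F.focalSubgroup := by
  obtain ⟨L, _, ι, hL⟩ := CfsgLib.Model.exists_model p hS hcon
  obtain ⟨hfin, hr, ⟨T, hT⟩, -⟩ := hL
  haveI := hfin
  haveI := finite_aut_of_le (le_refl S)
  intro hle
  refine sylow_not_le_commutator hp _ L rfl T (fun h => hne ?_) (fun g hg hgc => ?_) ?_
  · rw [eq_bot_iff]
    intro x hx
    exact Subgroup.mem_bot.mpr (congrArg Subtype.val (show (⟨x, hx⟩ : ↥S) = 1 from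
      hr.1 ((Subgroup.mem_bot.mp (h.le (hT ▸ ⟨_, rfl⟩ : ι ⟨x, hx⟩ ∈ (T : Subgroup L)))).trans (map_one ι).symm)))
  · have hgN : g ∈ Subgroup.normalizer (ι.range : Set L) := hT ▸ hg
    let e := MonoidHom.ofInjective hr.1
    let Φ : ↥(Subgroup.normalizer (ι.range : Set L)) →* MulAut ↥S :=
      (MulAut.congr e.symm).toMonoidHom.comp ι.range.normalizerMonoidHom
    set α := Φ ⟨g, hgN⟩ with hαdef
    have hαv : ∀ x : ↥S, ι (α x) = g * ι x * g⁻¹ := fun x => by
      show ι (e.symm (ι.range.normalizerMonoidHom ⟨g, hgN⟩ (e x))) = _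
      rw [← MonoidHom.ofInjective_apply hr.1, MulEquiv.apply_symm_apply]
      rfl
    have hα : α ∈ F.autGroup S := (autGroup_carrier F le_rfl _).mpr
      ((hr.2 S le_rfl _ fun x => (α x).2).mpr ⟨g, fun x => hαv x⟩)
    have h1 := haut α hα (Nat.Coprime.coprime_dvd_left (orderOf_map_dvd Φ _) (by rwa [Subgroup.orderOf_mk]))
    refine Subgroup.mem_centralizer_iff.mpr fun y hy => ?_
    obtain ⟨x, rfl⟩ : y ∈ ι.range := hT ▸ hy
    have h2 := hαv x
    rw [h1, MulAut.one_apply] at h2
    exact eq_mul_inv_iff_mul_eq.mp h2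
  · rw [hT]
    rintro _ ⟨x, rfl⟩
    have hF : F.focalSubgroup ≤ ((commutator L).comap ι).map S.subtype := by
      refine focal_le_of_mem _ fun P φ hφ y => ?_
      obtain ⟨g, hg⟩ := (hr.2 P (le_S hφ) φ fun v => apply_mem_S hφ v).mp hφ
      refine ⟨(⟨(y : Ω), le_S hφ y.2⟩ : ↥S)⁻¹ * ⟨φ y, apply_mem_S hφ y⟩, ?_, rfl⟩
      show ι _ ∈ commutator L
      rw [map_mul, map_inv, hg y, commutator_def]
      have h := Subgroup.commutator_mem_commutator (Subgroup.mem_top (ι ⟨(y : Ω), le_S hφ y.2⟩)⁻¹) (Subgroup.mem_top g)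
      simpa [commutatorElement_def, mul_assoc] using h
    obtain ⟨z, hz, hze⟩ := hF (hle x.2)
    rwa [show x = z from Subtype.ext hze.symm]

/-- **Proper focal subgroup**, `p ≥ 5`. -/
theorem focal_lt_of_autGroup (hp : 5 ≤ p) (hS : IsPGroup p ↥S) (hF : F.IsSaturated p) (hne : S ≠ ⊥)
    (haut : IsPGroup p ↥(F.autGroup S)) : F.focalSubgroup < S := by
  refine lt_of_le_of_ne (CfsgLib.Biset.focal_le F) fun heq => ?_
  have hW := CfsgLib.KInfStable.charP_upper.{u} (p := p)
  have hT : ∀ (G : Type u) [Group G] [Finite G] (P : Sylow p G),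
      Subgroup.centralizer ((Cfsg.pCore p G : Subgroup G) : Set G) ≤ Cfsg.pCore p G →
      Cfsg.pCore p G ⊓ commutator G = Cfsg.pCore p G ⊓
        (commutator ↥(Subgroup.normalizer (((kInfUpper ↥(P : Subgroup G)).map (P : Subgroup G).subtype : Subgroup G) : Set G))).map
          (Subgroup.normalizer (((kInfUpper ↥(P : Subgroup G)).map (P : Subgroup G).subtype : Subgroup G) : Set G)).subtype := by
    intro G _ _ P _
    have hle := CfsgLib.Core.pCore_le_sylow (p := p) P
    rw [Subgroup.map_subtype_commutator, ← inf_eq_left.mpr hle, inf_assoc, inf_assoc]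
    exact congrArg _ ((Cfsg.Agent.S1993.result P).1 hp)
  have h1 := focal_le_functor kInfUpper hW.1 hW.2 hT _ F rfl hS hF
  set K := ind kInfUpper S with hK
  have hKn : S ≤ Subgroup.normalizer (K : Set Ω) :=
    Subgroup.le_normalizer.trans (le_normalizer_of_characteristic (ind_le _ S) (ind_characteristic _ hW.2 S hS))
  have hN : normalizerIn S K = S := inf_eq_left.mpr hKn
  haveI : Finite ↥(normalizerIn S K) := finite_of_le inf_le_left
  have hsat := normalizerSystem_saturated p hS hF (fullyNormalized_of_normal (ind_le _ S) hKn) _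
    (normalizerSystem_spec (ind_le kInfUpper S))
  have hKN := isNormal_normalizerSystem (ind_le _ S) _ (normalizerSystem_spec (F := F) (ind_le kInfUpper S))
  refine focal_lt_of_constrained (S := normalizerIn S K) (F := normalizerSystem F K (ind_le kInfUpper S)) hp (hS.to_le inf_le_left) (fun h => hne (hN ▸ h))
    ⟨hsat, K, hKN, hKN.1, fun Q hQ => ?_⟩ (fun α hα hc => ?_) ((hN.le.trans heq.ge).trans h1)
  · obtain ⟨ψ, hψ, rfl⟩ := hQ
    rw [show ψ.range = K from sc_map_eq (isNormal_stronglyClosed hKN) le_rfl hψ]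
    have hcen : Subgroup.centralizer ((kInfUpper ↥S : Subgroup ↥S) : Set ↥S) ≤ kInfUpper ↥S := by
      obtain ⟨n, hn⟩ := CfsgLib.KInf.eventually_const (P := ↥S)
      rw [← (hn (n + 1) (Nat.le_succ n)).2]
      exact CfsgLib.KInf.centralizer_odd_succ_le hS.isNilpotent n
    intro x hx
    exact ⟨⟨x, hN.le hx.1⟩, hcen (Subgroup.mem_centralizer_iff.mpr fun y hy =>
      Subtype.ext (Subgroup.mem_centralizer_iff.mp hx.2 y ⟨y, hy, rfl⟩)), rfl⟩
  · have key : ∀ T : Subgroup Ω, T = S → ∀ β : MulAut ↥T, β ∈ F.autGroup T → (orderOf β).Coprime p → β = 1 := by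
      rintro T rfl β hβ hc
      obtain ⟨k, hk⟩ := haut ⟨β, hβ⟩
      exact orderOf_eq_one_iff.mp (Nat.eq_one_of_dvd_coprimes (hc.pow_right k) dvd_rfl
        (orderOf_dvd_of_pow_eq_one (congrArg Subtype.val hk)))
    refine key _ hN α ?_ hc
    refine (Subgroup.closure_le _).mpr ?_ hα
    exact fun β hβ => Subgroup.subset_closure hβ.1

end CfsgLib.Glauberman
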