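import Cfsg.Agent.Lib.Glauberman.FreeConstrained
import Cfsg.Agent.Lib.PStep

/-! From local normality of `Z J` of a strongly closed subgroup to normality in the whole system. (helper6) -/

set_option autoImplicit false
set_option linter.unusedSectionVars false
set_option linter.style.haveILetI false

namespace CfsgLib.Glauberman

open Cfsg Cfsg.FusionSystem CfsgLib.ThompsonNPC CfsgLib.Fusion

universe u

variable {Ω : Type u} [Group Ω] {S : Subgroup Ω} [Finite ↥S] {F : FusionSystem S} {p : ℕ} [Fact p.Prime]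

theorem zMeet_le' (e : ℕ) (D : Subgroup Ω) [Finite ↥D] : (⨅ A ∈ maxAb e D, A) ≤ D := by
  rw [show (⨅ A ∈ maxAb e D, A : Subgroup Ω) = zMeet e ((⊤ : Subgroup ↥D).map D.subtype) by
      rw [← MonoidHom.range_eq_map, Subgroup.range_subtype]; rfl,
    ← zMeet_map e (injOn_of_injective D.subtype_injective _)]
  exact Subgroup.map_subtype_le _

theorem iInf_maxAb_ne_bot' {e : ℕ} (he : p ∣ e) {D : Subgroup Ω} [Finite ↥D] (hD : IsPGroup p ↥D) (h : D ≠ ⊥) :
    (⨅ A ∈ maxAb e D, A : Subgroup Ω) ≠ ⊥ := by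
  intro h1
  have h2 : (zMeet e (⊤ : Subgroup ↥D)).map D.subtype = ⊥ := by
    rw [zMeet_map e (injOn_of_injective D.subtype_injective _), ← MonoidHom.range_eq_map, Subgroup.range_subtype]
    exact h1
  rw [Subgroup.map_eq_bot_iff_of_injective _ D.subtype_injective] at h2
  haveI := (Subgroup.nontrivial_iff_ne_bot D).mpr h
  exact zMeet_ne_bot he (hD.to_subgroup _) top_ne_bot h2

theorem inf_normalizerIn_ne_bot (hS : IsPGroup p ↥S) {D : Subgroup Ω} (hD : F.StronglyClosed D) (hne : D ≠ ⊥)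
    (W : Subgroup Ω) (hW : W ≤ S) : D ⊓ normalizerIn S W ≠ ⊥ := by
  haveI hn : (D.subgroupOf S).Normal :=
    (Subgroup.normal_subgroupOf_iff_le_normalizer hD.1).mpr (StronglyClosed.normal hD)
  have h := CfsgLib.PStep.normal_inf_center_ne_bot hS hn fun h0 => hne (by
    rw [← Subgroup.map_subgroupOf_eq_of_le hD.1, h0, Subgroup.map_bot])
  intro h0
  refine h (eq_bot_iff.mpr fun x hx => ?_)
  obtain ⟨hxD, hxc⟩ := Subgroup.mem_inf.mp hx
  have hxN : (x : Ω) ∈ normalizerIn S W := ⟨x.2, Subgroup.mem_normalizer_iff.mpr fun w => ?_⟩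
  · have : (x : Ω) ∈ (⊥ : Subgroup Ω) := h0 ▸ Subgroup.mem_inf.mpr ⟨hxD, hxN⟩
    exact Subgroup.mem_bot.mpr (Subtype.ext (Subgroup.mem_bot.mp this))
  have key : ∀ v ∈ S, (x : Ω) * v * (x : Ω)⁻¹ = v := fun v hv => by
    rw [show (x : Ω) * v = v * x from (congrArg Subtype.val (Subgroup.mem_center_iff.mp hxc ⟨v, hv⟩)).symm,
      mul_inv_cancel_right]
  constructor
  · intro hw; rw [key w (hW hw)]; exact hw
  · intro hw
    have h1 := key _ (hW hw)
    have h2 : (x : Ω) * w * (x : Ω)⁻¹ = w := mul_left_cancel (mul_right_cancel h1)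
    rwa [h2] at hw

/-- **Local to global**: if `Z J` of the trace of `D` is normal in every local system, then `Z J (D)` is normal. -/
theorem isNormal_of_local (hS : IsPGroup p ↥S) (hF : F.IsSaturated p) {e : ℕ} (he : p ∣ e) {D : Subgroup Ω}
    (hD : F.StronglyClosed D) (hne : D ≠ ⊥)
    (hloc : ∀ (W : Subgroup Ω) (hW : F.IsFullyNormalized W), W ≠ ⊥ →
      (normalizerSystem F W hW.1).IsNormal (⨅ A ∈ maxAb e (D ⊓ normalizerIn S W), A)) :
    F.IsNormal (⨅ A ∈ maxAb e D, A) := by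
  haveI := finite_of_le hD.1
  set W₀ := ⨅ A ∈ maxAb e D, A with hW₀
  have hW₀S : W₀ ≤ S := (zMeet_le' e D).trans hD.1
  have hW₀n : S ≤ Subgroup.normalizer (W₀ : Set Ω) :=
    (StronglyClosed.normal hD).trans (le_normalizer_of_characteristic (zMeet_le' e D) (characteristic_zMeet D e))
  have hN : normalizerIn S W₀ = S := inf_eq_left.mpr hW₀n
  let N := normalizerSystem F W₀ hW₀S
  let E : FusionSystem S :=
    { Hom := fun P => N.Hom P
      le_of_mem := fun hφ => ⟨(N.le_of_mem hφ).1.trans hN.le, fun x => hN.le ((N.le_of_mem hφ).2 x)⟩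
      injective_of_mem := fun hφ => N.injective_of_mem hφ
      conj_mem := fun hP hg => N.conj_mem (hP.trans hN.ge) (hN.ge hg)
      comp_mem := fun hφ hψ hh => N.comp_mem hφ hψ hh
      inv_mem := fun hφ => N.inv_mem hφ }
  suffices hle : F ≤ E by
    refine ⟨hW₀S, fun P φ hφ => ?_⟩
    obtain ⟨-, -, -, ψ, hψ, hψP, hψQ⟩ := hle P hφ
    exact ⟨ψ, hψ, hψP, hψQ⟩
  refine le_of_autGroup p hS hF E fun R hR hbig => ?_
  rcases eq_or_ne R ⊥ with rfl | hRne
  · haveI : Subsingleton (MulAut ↥(⊥ : Subgroup Ω)) := ⟨fun a b => MulEquiv.ext fun x => Subsingleton.elim _ _⟩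
    intro a _
    rw [Subsingleton.elim a 1]
    exact one_mem _
  suffices key : ∀ (d : ℕ) (W : Subgroup Ω), F.IsFullyNormalized W → W ≠ ⊥ →
      Nat.card ↥S - Nat.card ↥(normalizerIn S W) = d → Nat.card ↥R ≤ Nat.card ↥(normalizerIn S W) →
      ∀ (Q₁ : Subgroup Ω) (hWQ : W ≤ Q₁), Q₁ ≤ normalizerIn S W → ∀ ψ ∈ F.Hom Q₁, (∀ x, ψ x ∈ normalizerIn S W) →
        (∀ x : ↥W, ψ (Subgroup.inclusion hWQ x) ∈ W) → ψ ∈ E.Hom Q₁ by
    intro α hα
    have hα' := (autGroup_carrier F hR.1 α).mp hα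
    haveI : Finite ↥(normalizerIn S R) := finite_of_le inf_le_left
    have hle : R ≤ normalizerIn S R := le_inf hR.1 Subgroup.le_normalizer
    exact (autGroup_carrier E hR.1 α).mpr (key _ R hR hRne rfl (Subgroup.card_le_of_le hle) R le_rfl hle _ hα'
      (fun x => hle (α x).2) fun x => (α _).2)
  intro d
  induction d using Nat.strong_induction_on with
  | _ d ihd =>
  intro W hW hWne hd' hcard Q₁ hWQ hQ₁ ψ hψ hψN hψW
  set T₁ := normalizerIn S W with hT₁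
  set M := normalizerSystem F W hW.1
  haveI : Finite ↥(normalizerIn S W) := finite_of_le inf_le_left
  haveI := finite_of_le hW.1
  have hMp : IsPGroup p ↥(normalizerIn S W) := hS.to_le inf_le_left
  have hψM : ψ ∈ M.Hom Q₁ :=
    ⟨hψ, hQ₁, hψN, ψ.comp (Subgroup.inclusion (sup_le le_rfl hWQ)), restrict_mem hψ _, fun x => rfl,
      (map_eq_iff le_sup_right _).mpr ⟨hψW, range_subset_of_mem (F.injective_of_mem hψ) hWQ hψW⟩⟩
  have hn1 := hloc W hW hWne
  rcases eq_or_ne (normalizerIn S W) S with heq | hlt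
  · rw [show (⨅ A ∈ maxAb e (D ⊓ normalizerIn S W), A) = W₀ by rw [hW₀, heq, inf_eq_left.mpr hD.1]] at hn1
    obtain ⟨ψ₂, hψ₂, hψP, hψQ⟩ := hn1.2 Q₁ ψ hψM
    exact ⟨hψ, hN.ge.trans' (hQ₁.trans inf_le_left), fun x => hN.ge (hψN x).1, ψ₂, hψ₂.1, hψP, hψQ⟩
  haveI : Finite ↥(normalizerIn S T₁) := finite_of_le inf_le_left
  have hT₁lt : T₁ < normalizerIn S T₁ := lt_normalizerIn p hS (lt_of_le_of_ne inf_le_left hlt)
  set D₁ := D ⊓ T₁ with hD₁
  haveI : Finite ↥D₁ := finite_of_le (inf_le_left.trans hD.1)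
  set W₁ := ⨅ A ∈ maxAb e D₁, A
  set Q₂ := Q₁ ⊔ W₁
  obtain ⟨ψ₂, hψ₂M, hψ₂e, hψ₂W⟩ := hn1.2 Q₁ ψ hψM
  have hW₁ne : W₁ ≠ ⊥ :=
    iInf_maxAb_ne_bot' he (hS.to_le (inf_le_left.trans hD.1)) (inf_normalizerIn_ne_bot hS hD hne W hW.1)
  have hnD₁ : normalizerIn S T₁ ≤ Subgroup.normalizer (D₁ : Set Ω) := fun x hx =>
    Subgroup.mem_normalizer_iff.mpr fun y => by
      show y ∈ D ⊓ T₁ ↔ x * y * x⁻¹ ∈ D ⊓ T₁
      rw [Subgroup.mem_inf, Subgroup.mem_inf, Subgroup.mem_normalizer_iff.mp (StronglyClosed.normal hD hx.1) y,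
        Subgroup.mem_normalizer_iff.mp hx.2 y]
  have hW₁n : normalizerIn S T₁ ≤ normalizerIn S W₁ := le_inf inf_le_left
    (hnD₁.trans (le_normalizer_of_characteristic (zMeet_le' e D₁) (characteristic_zMeet D₁ e)))
  have hW₁T : W₁ ≤ S := hn1.1.trans inf_le_left
  obtain ⟨W', hconj, hW'⟩ := exists_fullyNormalized F hW₁T
  obtain ⟨μ, hμ, hμN, hμW, hμs⟩ := exists_map_normalizer p hS (fullyNormalized_automized p hS hF hW')
    (fullyNormalized_receptive p hS hF hW') hconj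
  haveI : Finite ↥(normalizerIn S W₁) := finite_of_le inf_le_left
  haveI : Finite ↥(normalizerIn S W') := finite_of_le inf_le_left
  have hbig1 : Nat.card ↥T₁ < Nat.card ↥(normalizerIn S W₁) := by
    refine lt_of_lt_of_le ?_ (Subgroup.card_le_of_le hW₁n)
    exact lt_of_le_of_ne (Subgroup.card_le_of_le hT₁lt.le) fun h =>
      hT₁lt.ne (Subgroup.eq_of_le_of_card_ge hT₁lt.le h.ge)
  have hbig2 : Nat.card ↥(normalizerIn S W₁) ≤ Nat.card ↥(normalizerIn S W') := hW'.2 W₁ (CfsgLib.Fusion.IsConj.symm hconj)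
  have hle' : Nat.card ↥(normalizerIn S W') ≤ Nat.card ↥S := Subgroup.card_le_of_le inf_le_left
  have hμE := hbig _ (lt_of_le_of_lt hcard hbig1) hμ
  have hW'ne : W' ≠ ⊥ := by
    intro h
    apply hW₁ne
    rw [← Subgroup.card_eq_one, CfsgLib.Fusion.IsConj.card_eq hconj, h, Subgroup.card_bot]
  have hT₁N : T₁ ≤ normalizerIn S W₁ := hT₁lt.le.trans hW₁n
  have hQ₂ : Q₂ ≤ normalizerIn S W₁ := (sup_le hQ₁ hn1.1).trans hT₁N
  have hψ₂ : ψ₂ ∈ F.Hom Q₂ := hψ₂M.1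
  obtain ⟨fW, gW⟩ := (map_eq_iff le_sup_right ψ₂).mp hψ₂W
  have hQ₄ : ψ₂.range ≤ normalizerIn S W₁ := (range_le_S hψ₂M).trans hT₁N
  -- the three isomorphisms
  have h₃ := restrict_mem hμ hQ₂
  have h₅ := restrict_mem hμ hQ₄
  set e₂ := isoOfMem h₃ rfl
  set e4 := isoOfMem h₅ rfl
  set f := isoOfMem hψ₂ rfl
  have he2 : (μ.comp (Subgroup.inclusion hQ₂)).range.subtype.comp e₂.toMonoidHom ∈ F.Hom Q₂ := by
    rw [isoOfMem_hom h₃ rfl]; exact h₃
  have he4 : (μ.comp (Subgroup.inclusion hQ₄)).range.subtype.comp e4.toMonoidHom ∈ F.Hom ψ₂.range := by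
    rw [isoOfMem_hom h₅ rfl]; exact h₅
  have hf : ψ₂.range.subtype.comp f.toMonoidHom ∈ F.Hom Q₂ := by rw [isoOfMem_hom hψ₂ rfl]; exact hψ₂
  set g := (e₂.symm.trans f).trans e4
  have hg := trans_mem (e₂.symm.trans f) e4 (trans_mem e₂.symm f (symm_mem e₂ he2) hf) he4
  have hW'Q : W' ≤ (μ.comp (Subgroup.inclusion hQ₂)).range := by
    intro y hy
    obtain ⟨x, hx, hxy⟩ := hμs y hy
    exact ⟨Subgroup.inclusion le_sup_right x, hxy⟩
  have hgE := ihd _ (by omega) W' hW' hW'ne rfl (by omega) _ hW'Q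
    (by rintro _ ⟨x, rfl⟩; exact hμN _) _ hg (fun x => ?_) (fun y => ?_)
  rotate_left
  · obtain ⟨z, hz⟩ := (g x).2
    show (g x).val ∈ _
    rw [← hz]; exact hμN _
  · obtain ⟨x, hx, hxy⟩ := hμs y y.2
    show (g ⟨y, hW'Q y.2⟩).val ∈ W'
    have h1 : e₂.symm ⟨y, hW'Q y.2⟩ = Subgroup.inclusion le_sup_right x := by
      rw [MulEquiv.symm_apply_eq]
      exact Subtype.ext ((isoOfMem_coe h₃ rfl _).trans hxy).symm
    show (e4 (f (e₂.symm ⟨y, hW'Q y.2⟩))).val ∈ W'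
    rw [h1, isoOfMem_coe]
    have h2 := hμW ⟨_, fW x⟩ (hQ₄ ⟨_, rfl⟩)
    refine (congrArg (· ∈ W') (congrArg μ (Subtype.ext ?_))).mpr h2
    exact isoOfMem_coe hψ₂ rfl _
  have heE : (μ.comp (Subgroup.inclusion hQ₂)).range.subtype.comp e₂.toMonoidHom ∈ E.Hom Q₂ := by
    rw [isoOfMem_hom h₃ rfl]; exact restrict_mem hμE hQ₂
  have he4E : (μ.comp (Subgroup.inclusion hQ₄)).range.subtype.comp e4.toMonoidHom ∈ E.Hom ψ₂.range := by
    rw [isoOfMem_hom h₅ rfl]; exact restrict_mem hμE hQ₄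
  have hfE := trans_mem (e₂.trans g) e4.symm (trans_mem e₂ g heE hgE) (symm_mem e4 he4E)
  refine restrict_mem_of_eq hfE (le_sup_left : Q₁ ≤ Q₂) fun x => ?_
  show ψ x = (e4.symm (g (e₂ (Subgroup.inclusion le_sup_left x)))).val
  rw [show g (e₂ (Subgroup.inclusion le_sup_left x)) = e4 (f (Subgroup.inclusion le_sup_left x)) by
    show e4 (f (e₂.symm (e₂ _))) = _
    rw [MulEquiv.symm_apply_apply], MulEquiv.symm_apply_apply, isoOfMem_coe]
  exact (hψ₂e x).symm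

end CfsgLib.Glauberman
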