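import Cfsg.Agent.Lib.Glauberman.Local
import Cfsg.Agent.Lib.Glauberman.QdFree
import Cfsg.Agent.Lib.PConstrained

/-! `Z J` of strongly closed subgroups when the local subgroups are constrained and stable. (helper6) -/

set_option autoImplicit false
set_option linter.unusedSectionVars false
set_option linter.style.haveILetI false

namespace CfsgLib.Glauberman

open Cfsg Cfsg.FusionSystem CfsgLib.ThompsonNPC CfsgLib.Fusion
open scoped commutatorElement

section Kernel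

variable {G H : Type*} [Group G] [Group H] [Finite G] {p : ℕ} [hp : Fact p.Prime] (f : G →* H)

theorem eq_of_map_eq (hker : (Nat.card f.ker).Coprime p) {U : Subgroup G} (hU : IsPGroup p ↥U) {u v : G}
    (hu : u ∈ U) (hv : v ∈ U) (h : f u = f v) : u = v := by
  have h1 : u * v⁻¹ ∈ U ⊓ f.ker := Subgroup.mem_inf.mpr ⟨mul_mem hu (inv_mem hv), by
    rw [MonoidHom.mem_ker, map_mul, map_inv, h, mul_inv_cancel]⟩
  rw [CfsgLib.PConstrained.inf_eq_bot_of_coprime hU hker, Subgroup.mem_bot, mul_inv_eq_one] at h1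
  exact h1

/-- Sylow's theorem inside `U` times the kernel. -/
theorem exists_ker_conj (hker : (Nat.card f.ker).Coprime p) {U V : Subgroup G} (hU : IsPGroup p ↥U)
    (hV : IsPGroup p ↥V) (h : V.map f ≤ U.map f) : ∃ o ∈ f.ker, ∀ v ∈ V, o * v * o⁻¹ ∈ U := by
  set M := U ⊔ f.ker with hM
  have hidx : ¬ p ∣ U.relIndex M := by
    intro hd
    have h : U.relIndex M * Nat.card U ∣ Nat.card f.ker * Nat.card U := by
      have h1 := Subgroup.relIndex_mul_relIndex ⊥ U M bot_le le_sup_left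
      rw [Subgroup.relIndex_bot_left, Subgroup.relIndex_bot_left] at h1
      rw [mul_comm, h1, mul_comm, hM]
      exact CfsgLib.Core.card_sup_dvd_of_normal U f.ker
    exact (hp.out.coprime_iff_not_dvd).1 hker.symm
      (hd.trans (Nat.dvd_of_mul_dvd_mul_right Nat.card_pos h))
  have hVM : V ≤ M := fun v hv => by
    obtain ⟨u, hu, hue⟩ := h ⟨v, hv, rfl⟩
    rw [show v = u * (u⁻¹ * v) by group]
    exact Subgroup.mul_mem_sup hu (by rw [MonoidHom.mem_ker, map_mul, map_inv, hue, inv_mul_cancel])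
  let P : Sylow p ↥M := hU.comap_subtype.toSylow hidx
  obtain ⟨P', hP'⟩ := (hV.comap_subtype (K := M)).exists_le_sylow
  obtain ⟨k, hk⟩ := MulAction.exists_smul_eq ↥M P' P
  obtain ⟨u, hu, o, ho, hko⟩ := Subgroup.mem_sup_of_normal_right.1 k.2
  refine ⟨o, ho, fun v hv => ?_⟩
  have h1 : k * ⟨v, hVM hv⟩ * k⁻¹ ∈ (P : Subgroup ↥M) := by
    rw [← hk]
    exact Subgroup.smul_mem_pointwise_smul _ (MulAut.conj k) _ (hP' (show (⟨v, hVM hv⟩ : ↥M) ∈ V.subgroupOf M from hv))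
  have h2 : (k : G) * v * (k : G)⁻¹ ∈ U := h1
  rw [show o * v * o⁻¹ = u⁻¹ * ((k : G) * v * (k : G)⁻¹) * u by rw [← hko]; group]
  exact mul_mem (mul_mem (inv_mem hu) h2) hu

/-- A map between `p`-subgroups normalized modulo the kernel is induced from the normalizer. -/
theorem exists_normalizer_same_conj (hker : (Nat.card f.ker).Coprime p) {T W Q : Subgroup G} (hT : IsPGroup p ↥T)
    (hWT : W ≤ T) (hQT : Q ≤ T) (hn : (W.map f).Normal) (g : G) (hg : ∀ x ∈ Q, g * x * g⁻¹ ∈ T) :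
    ∃ n ∈ Subgroup.normalizer (W : Set G), ∀ x ∈ Q, n * x * n⁻¹ = g * x * g⁻¹ := by
  set Q' := cj g Q with hQ'
  have hQ'T : Q' ≤ T := by rintro _ ⟨x, hx, rfl⟩; exact hg x hx
  set U := Q' ⊔ W
  have hUT : U ≤ T := sup_le hQ'T hWT
  have hmap : (cj g (Q ⊔ W)).map f ≤ U.map f := by
    rw [show cj g (Q ⊔ W) = Q' ⊔ cj g W from Subgroup.map_sup _ _ _, Subgroup.map_sup]
    refine sup_le (Subgroup.map_mono le_sup_left) ?_
    rintro _ ⟨_, ⟨w, hw, rfl⟩, rfl⟩
    refine Subgroup.map_mono le_sup_right ?_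
    show f (g * w * g⁻¹) ∈ W.map f
    rw [map_mul, map_mul, map_inv]
    exact hn.conj_mem _ ⟨w, hw, rfl⟩ _
  obtain ⟨o, ho, hoU⟩ := exists_ker_conj f hker (hT.to_le hUT) ((hT.to_le (sup_le hQT hWT)).map _) hmap
  have hfo : f o = 1 := ho
  refine ⟨o * g, Subgroup.mem_normalizer_fintype fun w hw => ?_, fun x hx => ?_⟩
  · obtain ⟨w', hw', he⟩ := hn.conj_mem _ ⟨w, hw, rfl⟩ (f g)
    have h1 : o * (g * w * g⁻¹) * o⁻¹ ∈ U := hoU _ ⟨w, (le_sup_right : W ≤ Q ⊔ W) hw, rfl⟩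
    show o * g * w * (o * g)⁻¹ ∈ W
    rw [show o * g * w * (o * g)⁻¹ = o * (g * w * g⁻¹) * o⁻¹ by group,
      eq_of_map_eq f hker (hT.to_le hUT) h1 ((le_sup_right : W ≤ U) hw') (by
        rw [he]; simp [hfo])]
    exact hw'
  · have h1 : o * (g * x * g⁻¹) * o⁻¹ ∈ U := hoU _ ⟨x, (le_sup_left : Q ≤ Q ⊔ W) hx, rfl⟩
    rw [show o * g * x * (o * g)⁻¹ = o * (g * x * g⁻¹) * o⁻¹ by group]
    exact eq_of_map_eq f hker (hT.to_le hUT) h1 ((le_sup_left : Q' ≤ U) ⟨x, hx, rfl⟩) (by simp [hfo])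

/-- Strong closure passes to the quotient by a kernel of order prime to `p`. -/
theorem stronglyClosed_map (hf : Function.Surjective f) (hker : (Nat.card f.ker).Coprime p) {T D : Subgroup G}
    (hT : IsPGroup p ↥T) (hD : Cfsg.IsStronglyClosed D T) : Cfsg.IsStronglyClosed (D.map f) (T.map f) := by
  refine ⟨Subgroup.map_mono hD.1, ?_⟩
  rintro _ ⟨x, hx, rfl⟩ h hh
  obtain ⟨g, rfl⟩ := hf h
  have hle : (cj g (Subgroup.zpowers x)).map f ≤ T.map f := by
    rw [cj, MonoidHom.map_zpowers, MonoidHom.map_zpowers, Subgroup.zpowers_le]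
    simpa using hh
  obtain ⟨o, ho, hoT⟩ := exists_ker_conj f hker hT
    ((hT.to_le (Subgroup.zpowers_le.mpr (hD.1 hx))).map _) hle
  have h1 : o * g * x * (o * g)⁻¹ ∈ T := by
    rw [show o * g * x * (o * g)⁻¹ = o * (g * x * g⁻¹) * o⁻¹ by group]
    exact hoT _ ⟨x, Subgroup.mem_zpowers x, rfl⟩
  refine ⟨_, hD.2 x hx _ h1, ?_⟩
  simp [(show f o = 1 from ho)]

theorem mem_pCore_transfer {Y A B : Type*} [Group Y] [Group A] [Group B] [Finite A] (ψ : Y →* A) (φ : Y →* B)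
    (hφ : Function.Surjective φ) (hk : ψ.ker ≤ φ.ker) {x : Y} (hx : ψ x ∈ Cfsg.pCore p A) :
    φ x ∈ Cfsg.pCore p B := by
  haveI := Cfsg.pCore_normal p A
  refine CfsgLib.Core.le_pCore ((inferInstance : ((Cfsg.pCore p A).comap ψ).Normal).map φ hφ) ?_ ⟨x, hx, rfl⟩
  rintro ⟨_, d, hd, rfl⟩
  obtain ⟨k, hk'⟩ := (CfsgLib.Core.isPGroup_pCore p : IsPGroup p ↥(Cfsg.pCore p A)) ⟨ψ d, hd⟩
  refine ⟨k, Subtype.ext ?_⟩
  show φ d ^ p ^ k = 1
  rw [← map_pow]
  exact hk (show ψ (d ^ p ^ k) = 1 by rw [map_pow]; exact congrArg Subtype.val hk')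

end Kernel

section Group

variable {G : Type*} [Group G] [Finite G] {p : ℕ} [hp : Fact p.Prime]

/-- Stability of a group in normalizer form passes to `p'`-quotients of its subgroups. -/
theorem stable_quotient (hst : Cfsg.IsNormalizerPStable p G) {X : Subgroup G} {H : Type*} [Group H]
    (f : ↥X →* H) (hf : Function.Surjective f) (hker : (Nat.card f.ker).Coprime p) : Stable p H := by
  haveI : Finite H := Finite.of_surjective f hf
  intro V' hV' hV'p a' ha'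
  obtain ⟨R⟩ : Nonempty (Sylow p ↥(V'.comap f)) := inferInstance
  let V : Subgroup ↥X := (R : Subgroup ↥(V'.comap f)).map (V'.comap f).subtype
  have hVp : IsPGroup p ↥V := R.2.map _
  let fV : ↥(V'.comap f) →* ↥V' := (f.comp (V'.comap f).subtype).codRestrict V' fun x => x.2
  have hfV : Function.Surjective fV := fun v => by
    obtain ⟨x, hx⟩ := hf v.1
    exact ⟨⟨x, show f x ∈ V' from hx ▸ v.2⟩, Subtype.ext hx⟩
  have hVmap : V.map f = V' := by
    have h := CfsgLib.Fusion.sylow_map_eq_top hV'p hfV R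
    refine le_antisymm ?_ fun v hv => ?_
    · rintro _ ⟨_, ⟨r, -, rfl⟩, rfl⟩; exact r.2
    · obtain ⟨r, hr, hre⟩ := h.ge (Subgroup.mem_top (⟨v, hv⟩ : ↥V'))
      exact ⟨r, ⟨r, hr, rfl⟩, congrArg Subtype.val hre⟩
  have hsurj := CfsgLib.PConstrained.normalizer_map_eq f hf hker hVp
  rw [hVmap, Subgroup.normalizer_eq_top_iff.mpr hV'] at hsurj
  obtain ⟨a, ha, rfl⟩ := hsurj.ge (Subgroup.mem_top a')
  set VG : Subgroup G := V.map X.subtype with hVG
  have haN : (a : G) ∈ Subgroup.normalizer (VG : Set G) :=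
    Subgroup.le_normalizer_map X.subtype ⟨a, ha, rfl⟩
  have hquad : ∀ v ∈ VG, ⁅⁅v, (a : G)⁆, (a : G)⁆ = 1 := by
    rintro _ ⟨v, hv, rfl⟩
    have hin : ⁅v, a⁆ ∈ V := by
      rw [commutatorElement_def, show v * a * v⁻¹ * a⁻¹ = v * (a * v⁻¹ * a⁻¹) by group]
      exact mul_mem hv ((Subgroup.mem_normalizer_iff.mp ha _).mp (inv_mem hv))
    have hin2 : ⁅⁅v, a⁆, a⁆ ∈ V := by
      rw [commutatorElement_def, show ⁅v, a⁆ * a * ⁅v, a⁆⁻¹ * a⁻¹ = ⁅v, a⁆ * (a * ⁅v, a⁆⁻¹ * a⁻¹) by group]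
      exact mul_mem hin ((Subgroup.mem_normalizer_iff.mp ha _).mp (inv_mem hin))
    have h1 : ⁅⁅v, a⁆, a⁆ = 1 := eq_of_map_eq f hker hVp hin2 (one_mem V) (by
      rw [map_commutatorElement, map_commutatorElement, map_one]
      exact ha' _ (hVmap.le ⟨v, hv, rfl⟩))
    have h2 := congrArg X.subtype h1
    rwa [map_commutatorElement, map_commutatorElement, map_one] at h2
  set Y := Subgroup.normalizer (VG : Set G)
  haveI : Finite ↥Y := inferInstance
  have hcomm : ⁅⁅VG, Subgroup.zpowers (a : G)⁆, Subgroup.zpowers (a : G)⁆ = ⊥ := by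
    have hVG' : (VG.subgroupOf Y).Normal := Subgroup.normal_in_normalizer
    have h := comm_zpowers_eq_bot (V := VG.subgroupOf Y) (a := (⟨a, haN⟩ : ↥Y)) fun v hv => Subtype.ext (hquad _ hv)
    have h' := congrArg (Subgroup.map Y.subtype) h
    rwa [Subgroup.map_commutator, Subgroup.map_commutator, MonoidHom.map_zpowers,
      Subgroup.map_subgroupOf_eq_of_le Subgroup.le_normalizer, Subgroup.map_bot] at h'
  have h := hst VG (hVp.map _) a haN hcomm
  let Y₀ : Subgroup ↥X := Subgroup.normalizer (V : Set ↥X)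
  let i : ↥Y₀ →* ↥Y := (X.subtype.comp Y₀.subtype).codRestrict Y fun y =>
    Subgroup.le_normalizer_map X.subtype ⟨y, y.2, rfl⟩
  let ψ := (QuotientGroup.mk' ((Subgroup.centralizer (VG : Set G)).subgroupOf Y)).comp i
  let φ := (QuotientGroup.mk' (Subgroup.centralizer (V' : Set H))).comp (f.comp Y₀.subtype)
  have hφ : Function.Surjective φ := by
    refine (QuotientGroup.mk'_surjective _).comp fun y => ?_
    obtain ⟨x, hx, rfl⟩ := hsurj.ge (Subgroup.mem_top y)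
    exact ⟨⟨x, hx⟩, rfl⟩
  have hk : ψ.ker ≤ φ.ker := by
    intro y hy
    have hy' : ((y : ↥X) : G) ∈ Subgroup.centralizer (VG : Set G) := (QuotientGroup.eq_one_iff (i y)).mp hy
    refine (QuotientGroup.eq_one_iff _).mpr (Subgroup.mem_centralizer_iff.mpr fun w hw => ?_)
    obtain ⟨v, hv, rfl⟩ := hVmap.ge hw
    show f v * f y = f y * f v
    rw [← map_mul, ← map_mul]
    exact congrArg f (Subtype.ext (Subgroup.mem_centralizer_iff.mp hy' _ ⟨v, hv, rfl⟩))
  exact mem_pCore_transfer ψ φ hφ hk (x := ⟨a, ha⟩) h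

/-- One local system. -/
theorem local_isNormal (hp2 : p ≠ 2) {e : ℕ} (he : e = 0 ∨ e = p) (P : Sylow p G) {D : Subgroup G}
    (hD : Cfsg.IsStronglyClosed D (P : Subgroup G)) {W : Subgroup G}
    (hW : (groupFusionSystem (P : Subgroup G)).IsFullyNormalized W) {H : Type*} [Group H]
    (f : ↥(Subgroup.normalizer (W : Set G)) →* H) (hf : Function.Surjective f) (hker : (Nat.card f.ker).Coprime p)
    (hst : Stable p H) (hc : Subgroup.centralizer ((Cfsg.pCore p H : Subgroup H) : Set H) ≤ Cfsg.pCore p H) :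
    (normalizerSystem (groupFusionSystem (P : Subgroup G)) W hW.1).IsNormal
      (⨅ A ∈ maxAb e (D ⊓ normalizerIn (P : Subgroup G) W), A) := by
  haveI : Finite H := Finite.of_surjective f hf
  let X := Subgroup.normalizer (W : Set G)
  set T₁ := normalizerIn (P : Subgroup G) W
  have hT₁X : T₁ ≤ X := inf_le_right
  have hidx : ¬ p ∣ (T₁.subgroupOf X).index := (group_fullyNormalized_iff P hW.1).mp hW
  let T : Sylow p ↥X := ((P.2.to_le inf_le_left : IsPGroup p ↥T₁).comap_subtype).toSylow hidx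
  set D₁ : Subgroup ↥X := (D ⊓ T₁).subgroupOf X with hD₁
  have hD₁sc : Cfsg.IsStronglyClosed D₁ (T : Subgroup ↥X) := by
    refine ⟨fun x hx => (Subgroup.mem_inf.mp hx).2, fun x hx g hg => Subgroup.mem_inf.mpr ⟨?_, hg⟩⟩
    exact hD.2 x (Subgroup.mem_inf.mp hx).1 g (Subgroup.mem_inf.mp (hg : _ ∈ T₁)).1
  have hsc := stronglyClosed_map f hf hker T.2 hD₁sc
  have hn := zj_normal hp2 he (T.mapSurjective hf) (D₁.map f) hsc hst hc
  have hinj : Set.InjOn f D₁ := fun u hu v hv huv =>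
    eq_of_map_eq f hker T.2 (hD₁sc.1 hu) (hD₁sc.1 hv) huv
  change (zMeet e (D₁.map f)).Normal at hn
  rw [← zMeet_map e hinj] at hn
  set W₁ := ⨅ A ∈ maxAb e (D ⊓ T₁), A with hW₁
  have hW₁X : (zMeet e D₁).map X.subtype = W₁ := by
    rw [zMeet_map e (injOn_of_injective X.subtype_injective _), Subgroup.map_subgroupOf_eq_of_le (inf_le_right.trans hT₁X)]
    rfl
  have hW₁T : zMeet e D₁ ≤ (T : Subgroup ↥X) := (zMeet_le e D₁).trans hD₁sc.1
  refine ⟨hW₁X ▸ (Subgroup.map_mono hW₁T).trans (le_of_eq (Subgroup.map_subgroupOf_eq_of_le hT₁X)), fun Q φ hφ => ?_⟩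
  obtain ⟨hφF, hQT, hφT, ψ, hψ, hψQ, hψW⟩ := hφ
  obtain ⟨-, -, g, hg⟩ := groupHom_iff.mp hψ
  obtain ⟨fW, -⟩ := (map_eq_iff le_sup_right ψ).mp hψW
  have hgX : g ∈ X := Subgroup.mem_normalizer_fintype fun w hw => by
    have h := fW ⟨w, hw⟩
    rwa [hg] at h
  have hφg : ∀ x : ↥Q, φ x = g * (x : G) * g⁻¹ := fun x => (hψQ x).symm.trans (hg _)
  obtain ⟨n, hn', hne⟩ := exists_normalizer_same_conj f hker T.2 hW₁T
    (Q := Q.subgroupOf X) (fun x hx => hQT hx) hn ⟨g, hgX⟩ fun x hx => by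
      show g * (x : G) * g⁻¹ ∈ T₁
      exact hφg ⟨x, hx⟩ ▸ hφT ⟨x, hx⟩
  have hnQ : ∀ x : ↥Q, φ x = (n : G) * x * (n : G)⁻¹ := fun x => by
    rw [hφg]
    exact (congrArg Subtype.val (hne ⟨x, hT₁X (hQT x.2)⟩ x.2)).symm
  have hnW₁ : (n : G) ∈ Subgroup.normalizer (W₁ : Set G) := by
    rw [← hW₁X]
    exact Subgroup.le_normalizer_map X.subtype ⟨n, hn', rfl⟩
  have hW₁le : W₁ ≤ T₁ := hW₁X ▸ (Subgroup.map_mono hW₁T).trans (le_of_eq (Subgroup.map_subgroupOf_eq_of_le hT₁X))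
  have hmem : ∀ x : ↥(Q ⊔ W₁), (n : G) * x * (n : G)⁻¹ ∈ T₁ := by
    have : Q ⊔ W₁ ≤ T₁.comap (MulAut.conj (n : G)).toMonoidHom :=
      sup_le (fun x hx => show (n : G) * x * (n : G)⁻¹ ∈ T₁ from hnQ ⟨x, hx⟩ ▸ hφT ⟨x, hx⟩)
        fun w hw => hW₁le ((Subgroup.mem_normalizer_iff.mp hnW₁ w).mp hw)
    exact fun x => this x.2
  have hle : Q ⊔ W₁ ≤ T₁ := sup_le hQT hW₁le
  have hmemP : ∀ x : ↥((Q ⊔ W₁) ⊔ W), (n : G) * x * (n : G)⁻¹ ∈ (P : Subgroup G) := by
    have : (Q ⊔ W₁) ⊔ W ≤ (P : Subgroup G).comap (MulAut.conj (n : G)).toMonoidHom :=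
      sup_le (fun x hx => (Subgroup.mem_inf.mp (hmem ⟨x, hx⟩)).1)
        fun w hw => hW.1 ((Subgroup.mem_normalizer_iff.mp n.2 w).mp hw)
    exact fun x => this x.2
  refine ⟨conjHom (Q ⊔ W₁) (n : G), ⟨groupHom_iff.mpr ⟨hle.trans inf_le_left, fun x => (Subgroup.mem_inf.mp (hmem x)).1, n, fun _ => rfl⟩,
      hle, hmem, conjHom _ (n : G), groupHom_iff.mpr ⟨sup_le (hle.trans inf_le_left) hW.1, hmemP, n, fun _ => rfl⟩,
      fun _ => rfl, (map_eq_iff le_sup_right _).mpr ⟨fun w => (Subgroup.mem_normalizer_iff.mp n.2 _).mp w.2,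
        range_subset_of_mem (fun a b h => Subtype.ext (mul_left_cancel (mul_right_cancel h))) le_sup_right
          fun w => (Subgroup.mem_normalizer_iff.mp n.2 _).mp w.2⟩⟩, fun x => (hnQ x).symm, ?_⟩
  exact (map_eq_iff le_sup_right _).mpr ⟨fun w => (Subgroup.mem_normalizer_iff.mp hnW₁ _).mp w.2,
    fun y hy => ⟨⟨(n : G)⁻¹ * y * n, (Subgroup.mem_normalizer_iff''.mp hnW₁ y).mp hy⟩, by
      show (n : G) * ((n : G)⁻¹ * y * n) * (n : G)⁻¹ = y
      group⟩⟩

/-- **Glauberman**: constrained and stable local subgroups make `Z J` of a strongly closed subgroup normal in the system. -/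
theorem isNormal_of_stable_locals (hp2 : p ≠ 2) {e : ℕ} (he : e = 0 ∨ e = p) (P : Sylow p G) {D : Subgroup G}
    (hD : Cfsg.IsStronglyClosed D (P : Subgroup G)) (hne : D ≠ ⊥) (hst : Cfsg.IsNormalizerPStable p G)
    (hc : ∀ U : Subgroup G, U ≤ (P : Subgroup G) → U ≠ ⊥ → Cfsg.IsPConstrained p ↥(Subgroup.normalizer (U : Set G))) :
    (groupFusionSystem (P : Subgroup G)).IsNormal (⨅ A ∈ maxAb e D, A) := by
  have hF : (groupFusionSystem (P : Subgroup G)).StronglyClosed D := ⟨hD.1, fun R hR φ hφ x => by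
    obtain ⟨-, hφP, g, hg⟩ := groupHom_iff.mp hφ
    rw [hg]
    exact hD.2 x (hR x.2) g (hg x ▸ hφP x)⟩
  have hd : p ∣ e := by rcases he with rfl | rfl <;> simp
  refine isNormal_of_local P.2 (group_isSaturated P) hd hF hne fun W hW hWne => ?_
  haveI := CfsgLib.PConstrained.pPrimeCore_normal (G := ↥(Subgroup.normalizer (W : Set G))) (p := p)
  have hker : (Nat.card ↥(QuotientGroup.mk' (Cfsg.pPrimeCore p ↥(Subgroup.normalizer (W : Set G)))).ker).Coprime p := by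
    rw [QuotientGroup.ker_mk']; exact CfsgLib.Core.card_pPrimeCore_coprime p
  exact local_isNormal hp2 he P hD hW _ (QuotientGroup.mk'_surjective _) hker
    (stable_quotient hst _ (QuotientGroup.mk'_surjective _) hker)
    (CfsgLib.PConstrained.isPConstrained_iff.mp (hc W hW.1 hWne))

end Group

end CfsgLib.Glauberman
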