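import Cfsg.Agent.Lib.Glauberman.ReplacementTwo
import Cfsg.Agent.Lib.BaerSuzuki
import Cfsg.Agent.Lib.Thompson.FourSym
import Cfsg.Agent.Lib.Core
import Cfsg.Agent.Lib.Fusion.Group
import Cfsg.Agent.Lib.Thompson.Criterion

/-! Central elements fixed by the normalizer of the Thompson subgroup, by norms. (helper6) -/

set_option autoImplicit false
set_option linter.unusedSectionVars false
set_option linter.style.haveILetI false

namespace CfsgLib.Glauberman

open CfsgLib.ThompsonNPC CfsgLib.Fusion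
open scoped commutatorElement IsMulCommutative

variable {G : Type*} [Group G]

section Norm

variable {V : Subgroup G} [V.Normal] [IsMulCommutative ↥V]

/-- Norms across steps covered by `B` are `p`-th powers. -/
def NormGood (p : ℕ) (V B : Subgroup G) [V.Normal] [IsMulCommutative ↥V] : Prop :=
  ∀ (H : Subgroup G) (a : G) (w : ↥V), a ∈ B → a ∉ H → a ^ p ∈ H → (∀ b ∈ B, ∃ i : ℕ, (a ^ i)⁻¹ * b ∈ H) →
    (∀ h ∈ H, MulAut.conjNormal h w = w) → ∃ v : ↥V, ∏ i ∈ Finset.range p, MulAut.conjNormal (a ^ i) w = v ^ p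

theorem conjNormal_mul (g h : G) (w : ↥V) :
    MulAut.conjNormal g (MulAut.conjNormal h w) = MulAut.conjNormal (g * h) w := by
  rw [map_mul]; rfl

theorem conjNormal_eq_self_iff {g : G} {w : ↥V} : MulAut.conjNormal g w = w ↔ g * (w : G) = w * g := by
  rw [Subtype.ext_iff, MulAut.conjNormal_apply, mul_inv_eq_iff_eq_mul]

theorem normGood_conj {p : ℕ} {B : Subgroup G} (h : NormGood p V B) (g : G) :
    NormGood p V (B.map (MulAut.conj g).toMonoidHom) := by
  intro H a w ha haH hap hgen hfix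
  obtain ⟨a₀, ha₀, rfl⟩ := ha
  have hc : ∀ x, x ∈ H.comap (MulAut.conj g).toMonoidHom ↔ g * x * g⁻¹ ∈ H := fun x => Iff.rfl
  obtain ⟨v, hv⟩ := h (H.comap (MulAut.conj g).toMonoidHom) a₀ (MulAut.conjNormal g⁻¹ w) ha₀ haH
    (by rw [Subgroup.mem_comap, map_pow]; exact hap) (fun b hb => by
      obtain ⟨i, hi⟩ := hgen _ ⟨b, hb, rfl⟩
      exact ⟨i, by rw [Subgroup.mem_comap, map_mul, map_inv, map_pow]; exact hi⟩)
    (fun x hx => by
      rw [conjNormal_mul, show x * g⁻¹ = g⁻¹ * (g * x * g⁻¹) by group, ← conjNormal_mul, hfix _ ((hc x).mp hx)])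
  refine ⟨MulAut.conjNormal g v, ?_⟩
  rw [← map_pow, ← hv, map_prod]
  refine Finset.prod_congr rfl fun i _ => ?_
  rw [conjNormal_mul, conjNormal_mul, ← map_pow]
  show MulAut.conjNormal (g * a₀ ^ i * g⁻¹) w = _
  rfl

variable [Finite G] {p : ℕ} [hp : Fact p.Prime]

/-- In a step of index `p` every element outside generates. -/
theorem step_generates {P H K : Subgroup G} (hP : IsPGroup p P) (hKP : K ≤ P) (hHK : H ≤ K)
    (hcard : Nat.card ↥K = p * Nat.card ↥H) {a : G} (ha : a ∈ K) (haH : a ∉ H) :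
    a ^ p ∈ H ∧ (∀ h ∈ H, a * h * a⁻¹ ∈ H) ∧ ∀ k ∈ K, ∃ i < p, (a ^ i)⁻¹ * k ∈ H := by
  haveI : Finite ↥K := inferInstance
  haveI := (hP.to_le hKP).isNilpotent
  set H' := H.subgroupOf K
  have hidx : H'.index = p := by
    have h1 := H'.card_mul_index
    rw [Nat.card_congr (Subgroup.subgroupOfEquivOfLe hHK).toEquiv, hcard, mul_comm p] at h1
    exact Nat.eq_of_mul_eq_mul_left Nat.card_pos h1
  have hne : H' < ⊤ := lt_top_iff_ne_top.mpr fun h => by
    rw [h, Subgroup.index_top] at hidx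
    exact hp.out.ne_one hidx.symm
  haveI : H'.Normal := by
    refine Subgroup.normalizer_eq_top_iff.mp ?_
    have hlt := Group.normalizerCondition_of_isNilpotent (G := ↥K) H' hne
    have h2 := Subgroup.index_dvd_of_le hlt.le
    rw [hidx] at h2
    rcases (Nat.dvd_prime hp.out).mp h2 with h3 | h3
    · exact Subgroup.index_eq_one.mp h3
    · exfalso
      have h4 := Subgroup.relIndex_mul_index hlt.le
      rw [h3, hidx] at h4
      exact hlt.ne (Subgroup.relIndex_eq_one.mp (Nat.eq_of_mul_eq_mul_right hp.out.pos (h4.trans (one_mul p).symm))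
        |>.antisymm' hlt.le)
  have hq : Nat.card (↥K ⧸ H') = p := hidx
  set a' : ↥K := ⟨a, ha⟩ with ha'
  have hane : (QuotientGroup.mk a' : ↥K ⧸ H') ≠ 1 := fun h => haH ((QuotientGroup.eq_one_iff a').mp h)
  have hpow : (QuotientGroup.mk a' : ↥K ⧸ H') ^ p = 1 :=
    hq ▸ pow_card_eq_one'
  refine ⟨?_, fun h hh => ?_, fun k hk => ?_⟩
  · rw [← QuotientGroup.mk_pow, QuotientGroup.eq_one_iff] at hpow
    exact hpow
  · exact ‹H'.Normal›.conj_mem ⟨h, hHK hh⟩ hh ⟨a, ha⟩
  · set k' : ↥K := ⟨k, hk⟩ with hk'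
    obtain ⟨i, hi⟩ := mem_powers_of_prime_card hq (g' := (QuotientGroup.mk k' : ↥K ⧸ H')) hane
    refine ⟨i % p, Nat.mod_lt _ hp.out.pos, ?_⟩
    have h1 : (QuotientGroup.mk a' : ↥K ⧸ H') ^ (i % p) = QuotientGroup.mk k' := by
      rw [← hi]
      show _ = (QuotientGroup.mk a' : ↥K ⧸ H') ^ i
      conv_rhs => rw [← Nat.mod_add_div i p, pow_add, pow_mul, hpow, one_pow, mul_one]
    rw [← QuotientGroup.mk_pow] at h1
    exact Subgroup.mem_subgroupOf.mp (QuotientGroup.eq.mp h1)

/-- Norms from `H` to `P` are `p`-th powers when some good subgroup of `P` is outside `H`. -/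
theorem exists_pow_prod {P : Subgroup G} (hP : IsPGroup p P) :
    ∀ (n : ℕ) (H : Subgroup G), Nat.card ↥P - Nat.card ↥H = n → H ≤ P → ∀ (w : ↥V),
      (∀ h ∈ H, MulAut.conjNormal h w = w) → (∃ B, NormGood p V B ∧ B ≤ P ∧ ¬ B ≤ H) →
      ∀ [Fintype (↥P ⧸ H.subgroupOf P)],
        ∃ v : ↥V, ∏ q : ↥P ⧸ H.subgroupOf P, MulAut.conjNormal (q.out : G) w = v ^ p := by
  intro n
  induction n using Nat.strong_induction_on with
  | _ n ih =>
  intro H hn hHP w hw hB _
  classical
  obtain ⟨B, hBg, hBP, hBH⟩ := hB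
  obtain ⟨k, hk⟩ := IsPGroup.iff_card.mp hP
  obtain ⟨j, hj⟩ := IsPGroup.iff_card.mp (hP.to_le hHP)
  have hlt : j < k := by
    by_contra h
    exact hBH (hBP.trans (Subgroup.eq_of_le_of_card_ge hHP (by
      rw [hk, hj]; exact Nat.pow_le_pow_right hp.out.pos (by omega))).ge)
  obtain ⟨K', hK', hHK'⟩ := Sylow.exists_subgroup_card_pow_succ (G := ↥P) (p := p) (n := j)
    (hk ▸ pow_dvd_pow p (by omega)) (H := H.subgroupOf P)
    ((Nat.card_congr (Subgroup.subgroupOfEquivOfLe hHP).toEquiv).trans hj)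
  set K := K'.map P.subtype with hKdef
  have hKP : K ≤ P := Subgroup.map_subtype_le _
  have hHK : H ≤ K := fun h hh => ⟨⟨h, hHP hh⟩, hHK' hh, rfl⟩
  have hKcard : Nat.card ↥K = p * Nat.card ↥H := by
    rw [hKdef, Subgroup.card_map_of_injective P.subtype_injective, hK', hj, pow_succ']
  have hKH : ¬ K ≤ H := fun h => by
    have h1 := Subgroup.card_le_of_le h
    rw [hKcard] at h1
    exact absurd h1 (not_le.mpr (lt_mul_of_one_lt_left Nat.card_pos hp.out.one_lt))
  obtain ⟨a, haK, haH, hcase⟩ : ∃ a ∈ K, a ∉ H ∧ (B ≤ K → a ∈ B) := by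
    by_cases hBK : B ≤ K
    · obtain ⟨a, ha, haH⟩ := SetLike.not_le_iff_exists.mp hBH
      exact ⟨a, hBK ha, haH, fun _ => ha⟩
    · obtain ⟨a, ha, haH⟩ := SetLike.not_le_iff_exists.mp hKH
      exact ⟨a, ha, haH, fun h => absurd h hBK⟩
  obtain ⟨hap, hnorm, hgen⟩ := step_generates hP hKP hHK hKcard haK haH
  set w₁ := ∏ i ∈ Finset.range p, MulAut.conjNormal (a ^ i) w
  have hnormi : ∀ (i : ℕ), ∀ h ∈ H, (a ^ i)⁻¹ * h * a ^ i ∈ H := by
    have h0 : ∀ h ∈ H, a⁻¹ * h * a ∈ H := fun h hh => by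
      have hinj : Function.Injective (fun x : ↥H => (⟨a * x * a⁻¹, hnorm x x.2⟩ : ↥H)) := fun x y hxy => by
        simpa using congrArg Subtype.val hxy
      obtain ⟨x, hx⟩ := (Finite.injective_iff_surjective.mp hinj) ⟨h, hh⟩
      have h1 : a * (x : G) * a⁻¹ = h := congrArg Subtype.val hx
      rw [← h1, show a⁻¹ * (a * (x : G) * a⁻¹) * a = x by group]
      exact x.2
    intro i
    induction i with
    | zero => intro h hh; simpa using hh
    | succ i ih' =>
      intro h hh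
      have := h0 _ (ih' h hh)
      convert this using 1
      rw [pow_succ]; group
  have hw₁ : ∀ k ∈ K, MulAut.conjNormal k w₁ = w₁ := by
    have hH₁ : ∀ h ∈ H, MulAut.conjNormal h w₁ = w₁ := fun h hh => by
      rw [map_prod]
      refine Finset.prod_congr rfl fun i _ => ?_
      rw [conjNormal_mul, show h * a ^ i = a ^ i * ((a ^ i)⁻¹ * h * a ^ i) by group, ← conjNormal_mul,
        hw _ (hnormi i h hh)]
    have ha₁ : MulAut.conjNormal a w₁ = w₁ := by
      rw [map_prod]
      have h1 := Finset.prod_range_succ' (fun i => MulAut.conjNormal (a ^ i) w) p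
      rw [Finset.prod_range_succ, hw _ hap, pow_zero, map_one] at h1
      refine (Finset.prod_congr rfl fun i _ => ?_).trans (mul_right_cancel h1).symm
      rw [conjNormal_mul, ← pow_succ']
    intro k hk
    obtain ⟨i, -, hi⟩ := hgen k hk
    rw [show k = a ^ i * ((a ^ i)⁻¹ * k) by group, ← conjNormal_mul, hH₁ _ hi]
    clear hi hk
    induction i with
    | zero => simp
    | succ i ih' => rw [pow_succ', ← conjNormal_mul, ih', ha₁]
  -- split the product
  have hinj : ∀ i < p, ∀ j < p, (a ^ i)⁻¹ * a ^ j ∈ H → i = j := by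
    have key : ∀ d, 0 < d → d < p → a ^ d ∉ H := fun d hd hdp hmem => by
      have hco : (p : ℕ).Coprime d := (hp.out.coprime_iff_not_dvd).mpr (Nat.not_dvd_of_pos_of_lt hd hdp)
      refine haH ?_
      have h1 : a ^ (1 : ℤ) ∈ H := by
        rw [show (1 : ℤ) = (p : ℤ) * Nat.gcdA p d + (d : ℤ) * Nat.gcdB p d by rw [← Nat.gcd_eq_gcd_ab, hco]; rfl,
          zpow_add, zpow_mul, zpow_mul, zpow_natCast, zpow_natCast]
        exact mul_mem (H.zpow_mem hap _) (H.zpow_mem hmem _)
      simpa using h1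
    intro i hi j hj' h
    rcases lt_trichotomy i j with hij | hij | hij
    · refine absurd ?_ (key (j - i) (by omega) (by omega))
      rwa [show j = i + (j - i) by omega, pow_add, inv_mul_cancel_left] at h
    · exact hij
    · refine absurd ?_ (key (i - j) (by omega) (by omega))
      have h' := H.inv_mem h
      rwa [mul_inv_rev, inv_inv, show i = j + (i - j) by omega, pow_add, inv_mul_cancel_left] at h'
  haveI : Fintype (↥P ⧸ K.subgroupOf P) := Fintype.ofFinite _
  let e : (↥P ⧸ K.subgroupOf P) × Fin p → ↥P ⧸ H.subgroupOf P :=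
    fun x => QuotientGroup.mk (x.1.out * ⟨a ^ (x.2 : ℕ), hKP (K.pow_mem haK _)⟩)
  have he : Function.Bijective e := by
    refine ⟨?_, fun q => ?_⟩
    · rintro ⟨q, i⟩ ⟨q', i'⟩ hqq
      have h := Subgroup.mem_subgroupOf.mp (QuotientGroup.eq.mp hqq)
      simp only [Subgroup.coe_mul, InvMemClass.coe_inv, mul_inv_rev] at h
      have hq : q = q' := by
        rw [← QuotientGroup.out_eq' q, ← QuotientGroup.out_eq' q']
        refine QuotientGroup.eq.mpr (Subgroup.mem_subgroupOf.mpr ?_)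
        have h1 := mul_mem (mul_mem (K.pow_mem haK i) (hHK h)) (K.inv_mem (K.pow_mem haK i'))
        simpa [mul_assoc] using h1
      subst hq
      refine Prod.ext rfl (Fin.ext (hinj i i.2 i' i'.2 ?_))
      simpa [mul_assoc] using h
    · set q' : ↥P ⧸ K.subgroupOf P := QuotientGroup.mk q.out
      have hmem : (q'.out : G)⁻¹ * (q.out : G) ∈ K :=
        Subgroup.mem_subgroupOf.mp (QuotientGroup.eq.mp (QuotientGroup.out_eq' q'))
      obtain ⟨i, hi, hiH⟩ := hgen _ hmem
      refine ⟨⟨q', ⟨i, hi⟩⟩, ?_⟩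
      conv_rhs => rw [← QuotientGroup.out_eq' q]
      refine QuotientGroup.eq.mpr (Subgroup.mem_subgroupOf.mpr ?_)
      simpa [mul_assoc] using hiH
  have hsplit : ∏ q : ↥P ⧸ H.subgroupOf P, MulAut.conjNormal (q.out : G) w =
      ∏ q : ↥P ⧸ K.subgroupOf P, MulAut.conjNormal (q.out : G) w₁ := by
    rw [← (Equiv.ofBijective e he).prod_comp, Fintype.prod_prod_type]
    refine Finset.prod_congr rfl fun q _ => ?_
    show _ = MulAut.conjNormal (q.out : G) (∏ i ∈ Finset.range p, MulAut.conjNormal (a ^ i) w)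
    rw [map_prod, ← Fin.prod_univ_eq_prod_range (fun i => MulAut.conjNormal (q.out : G) (MulAut.conjNormal (a ^ i) w))]
    refine Finset.prod_congr rfl fun i _ => ?_
    set y : ↥P := q.out * ⟨a ^ (i : ℕ), hKP (K.pow_mem haK _)⟩
    have h1 : (y : G)⁻¹ * ((QuotientGroup.mk y : ↥P ⧸ H.subgroupOf P).out : G) ∈ H :=
      Subgroup.mem_subgroupOf.mp (QuotientGroup.eq.mp (QuotientGroup.out_eq' _).symm)
    show MulAut.conjNormal ((QuotientGroup.mk y : ↥P ⧸ H.subgroupOf P).out : G) w = _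
    rw [conjNormal_mul, show ((QuotientGroup.mk y : ↥P ⧸ H.subgroupOf P).out : G) =
      (y : G) * ((y : G)⁻¹ * ((QuotientGroup.mk y : ↥P ⧸ H.subgroupOf P).out : G)) by group, ← conjNormal_mul, hw _ h1]
    rfl
  rw [hsplit]
  by_cases hBK : B ≤ K
  · obtain ⟨v, hv⟩ := hBg H a w (hcase hBK) haH hap (fun b hb => (hgen b (hBK hb)).imp fun _ h => h.2) hw
    refine ⟨∏ q : ↥P ⧸ K.subgroupOf P, MulAut.conjNormal (q.out : G) v, ?_⟩
    rw [← Finset.prod_pow]
    exact Finset.prod_congr rfl fun q _ => by rw [show w₁ = v ^ p from hv, map_pow]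
  · refine ih _ ?_ K rfl hKP w₁ hw₁ ⟨B, hBg, hBP, hBK⟩
    have h1 : Nat.card ↥H < Nat.card ↥K := by
      rw [hKcard]; exact lt_mul_of_one_lt_left Nat.card_pos hp.out.one_lt
    have h2 := Subgroup.card_le_of_le hKP
    omega

end Norm

section Main

variable [Finite G]

/-- For odd `p` quadratic subgroups are good. -/
theorem normGood_quadratic {p : ℕ} [hp : Fact p.Prime] (hp2 : p ≠ 2) {V B : Subgroup G} [V.Normal]
    [IsMulCommutative ↥V] (hq : ⁅⁅V, B⁆, B⁆ = ⊥) : NormGood p V B := by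
  intro H a w ha _ hap _ hw
  have hwp : MulAut.conjNormal (a ^ p) w = w := hw _ hap
  set c := ⁅a, (w : G)⁆ with hcdef
  have hcV : c ∈ V := by
    rw [hcdef, commutatorElement_def]; exact mul_mem (‹V.Normal›.conj_mem _ w.2 a) (inv_mem w.2)
  have hca : a * c = c * a := by
    have h1 : ⁅⁅(w : G), a⁆, a⁆ = 1 := Subgroup.mem_bot.mp (hq ▸
      Subgroup.commutator_mem_commutator (Subgroup.commutator_mem_commutator w.2 ha) ha)
    have h2 : Commute ⁅(w : G), a⁆ a := commutatorElement_eq_one_iff_mul_comm.mp h1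
    rw [hcdef, ← commutatorElement_inv (w : G) a]
    exact h2.symm.inv_right.eq
  set C : ↥V := ⟨c, hcV⟩
  have hC : MulAut.conjNormal a C = C := conjNormal_eq_self_iff.mpr hca
  have haw : MulAut.conjNormal a w = C * w := Subtype.ext (by
    rw [MulAut.conjNormal_apply, Subgroup.coe_mul]
    show _ = c * (w : G)
    rw [hcdef, commutatorElement_def]; group)
  have key : ∀ i, MulAut.conjNormal (a ^ i) w = C ^ i * w := by
    intro i
    induction i with
    | zero => simp
    | succ i ih => rw [pow_succ', ← conjNormal_mul, ih, map_mul, map_pow, hC, haw, pow_succ, mul_assoc]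
  have hCp : C ^ p = 1 := by
    have h1 := key p
    rw [hwp] at h1
    exact mul_eq_right.mp h1.symm
  refine ⟨w, ?_⟩
  rw [Finset.prod_congr rfl fun i _ => key i, Finset.prod_mul_distrib, Finset.prod_pow_eq_pow_sum,
    Finset.prod_const, Finset.card_range, Finset.sum_range_id]
  obtain ⟨m, hm⟩ := hp.out.odd_of_ne_two hp2
  rw [show p * (p - 1) / 2 = p * m by rw [hm, show 2 * m + 1 - 1 = 2 * m by omega,
    show (2 * m + 1) * (2 * m) = (2 * m + 1) * m * 2 by ring, Nat.mul_div_cancel _ two_pos], pow_mul, hCp, one_pow,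
    one_mul]

/-- An element of `G` acting on abelian `V` as a transvection gives a section `Sym(4)`, or lies in `O₂` modulo the
kernel. -/
theorem mem_of_transvection {V : Subgroup G} [V.Normal] [IsMulCommutative ↥V] (hS4 : S4Free G) {a : G}
    (hidx : ∀ u ∈ V, ∀ v ∈ V, a * u ≠ u * a → a * v ≠ v * a → a * (u * v⁻¹) = u * v⁻¹ * a)
    (hO : ∀ N : Subgroup (G ⧸ Subgroup.centralizer (V : Set G)), N.Normal → IsPGroup 2 ↥N → N = ⊥) :
    a ∈ Subgroup.centralizer (V : Set G) := by
  set K := Subgroup.centralizer (V : Set G)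
  by_contra haK
  obtain ⟨v₀, hv₀, hne⟩ : ∃ v ∈ V, a * v ≠ v * a := by
    by_contra h
    push Not at h
    exact haK (Subgroup.mem_centralizer_iff.mpr fun v hv => (h v hv).symm)
  have hmulV : ∀ x ∈ V, ∀ y ∈ V, x * y = y * x := fun x hx y hy =>
    congrArg Subtype.val (mul_comm (⟨x, hx⟩ : ↥V) ⟨y, hy⟩)
  set t := ⁅a, v₀⁆ with htdef
  have htV : t ∈ V := by rw [htdef, commutatorElement_def]; exact mul_mem (‹V.Normal›.conj_mem _ hv₀ a) (inv_mem hv₀)
  -- the two values
  have hval : ∀ v ∈ V, a * v * a⁻¹ = v ∨ a * v * a⁻¹ = v * t := by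
    intro v hv
    by_cases h : a * v = v * a
    · exact Or.inl (mul_inv_eq_iff_eq_mul.mpr h)
    · refine Or.inr ?_
      have h1 := hidx v hv v₀ hv₀ h hne
      have h2 : a * v * a⁻¹ * (a * v₀ * a⁻¹)⁻¹ = v * v₀⁻¹ := by
        rw [show a * v * a⁻¹ * (a * v₀ * a⁻¹)⁻¹ = a * (v * v₀⁻¹) * a⁻¹ by group, h1, mul_inv_cancel_right]
      rw [mul_inv_eq_iff_eq_mul.mp h2, show a * v₀ * a⁻¹ = t * v₀ by rw [htdef, commutatorElement_def]; group,
        hmulV t htV v₀ hv₀]
      group
  have ht1 : t ≠ 1 := fun h => hne (commutatorElement_eq_one_iff_mul_comm.mp h)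
  have hat : a * t * a⁻¹ = t := (hval t htV).elim id fun h => by
    exfalso
    rcases hval (v₀ * v₀) (mul_mem hv₀ hv₀) with h' | h' <;>
      rw [show a * (v₀ * v₀) * a⁻¹ = (a * v₀ * a⁻¹) * (a * v₀ * a⁻¹) by group,
        show a * v₀ * a⁻¹ = t * v₀ by rw [htdef, commutatorElement_def]; group,
        show t * v₀ * (t * v₀) = v₀ * v₀ * (t * t) by
          rw [hmulV t htV v₀ hv₀, mul_assoc, ← mul_assoc t, hmulV t htV v₀ hv₀]; group] at h'
    · have h2 : a * t * a⁻¹ = 1 := h.trans (mul_eq_left.mp h')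
      exact ht1 (by simpa [mul_assoc] using congrArg (fun x => a⁻¹ * x * a) h2)
    · exact ht1 (mul_eq_left.mp (mul_left_cancel h'))
  have htt : t * t = 1 := by
    rcases hval (v₀ * v₀) (mul_mem hv₀ hv₀) with h' | h' <;>
      rw [show a * (v₀ * v₀) * a⁻¹ = (a * v₀ * a⁻¹) * (a * v₀ * a⁻¹) by group,
        show a * v₀ * a⁻¹ = t * v₀ by rw [htdef, commutatorElement_def]; group,
        show t * v₀ * (t * v₀) = v₀ * v₀ * (t * t) by
          rw [hmulV t htV v₀ hv₀, mul_assoc, ← mul_assoc t, hmulV t htV v₀ hv₀]; group] at h'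
    · exact mul_eq_left.mp h'
    · exact absurd (mul_eq_left.mp (mul_left_cancel h')) ht1
  set q := QuotientGroup.mk' K
  have hmem : ∀ x : G, (∀ v ∈ V, x * v * x⁻¹ = v) → q x = 1 := fun x hx =>
    (QuotientGroup.eq_one_iff x).mpr (Subgroup.mem_centralizer_iff.mpr fun v hv =>
      (mul_inv_eq_iff_eq_mul.mp (hx v hv)).symm)
  have haa : q a * q a = 1 := by
    rw [← map_mul]
    refine hmem _ fun v hv => ?_
    rw [show a * a * v * (a * a)⁻¹ = a * (a * v * a⁻¹) * a⁻¹ by group]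
    rcases hval v hv with h | h <;> rw [h]
    · exact h
    · rw [show a * (v * t) * a⁻¹ = (a * v * a⁻¹) * (a * t * a⁻¹) by group, h, hat, mul_assoc, htt, mul_one]
  suffices hbs' : ∀ g : G ⧸ K, IsPGroup 2 ↥(Subgroup.zpowers (q a) ⊔
      (Subgroup.zpowers (q a)).map (MulAut.conj g).toMonoidHom) by
    obtain ⟨N, hN, hNp, haN⟩ := CfsgLib.BaerSuzuki.baer_suzuki (p := 2) (Subgroup.zpowers (q a)) hbs'
    refine haK ((QuotientGroup.eq_one_iff a).mp ?_)
    exact Subgroup.mem_bot.mp (hO N hN hNp ▸ haN (Subgroup.mem_zpowers _))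
  intro g
  obtain ⟨g, rfl⟩ := QuotientGroup.mk'_surjective K g
  set b := g * a * g⁻¹ with hbdef
  set s := g * t * g⁻¹ with hsdef
  have hsV : s ∈ V := ‹V.Normal›.conj_mem t htV g
  have hbval : ∀ v ∈ V, b * v * b⁻¹ = v ∨ b * v * b⁻¹ = v * s := by
    intro v hv
    rcases hval (g⁻¹ * v * g) (by simpa using ‹V.Normal›.conj_mem v hv g⁻¹) with h | h
    · left
      rw [show b * v * b⁻¹ = g * (a * (g⁻¹ * v * g) * a⁻¹) * g⁻¹ by rw [hbdef]; group, h]; group
    · right
      rw [show b * v * b⁻¹ = g * (a * (g⁻¹ * v * g) * a⁻¹) * g⁻¹ by rw [hbdef]; group, h, hsdef]; group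
  have hbs : b * s * b⁻¹ = s := by rw [hbdef, hsdef, show g * a * g⁻¹ * (g * t * g⁻¹) * (g * a * g⁻¹)⁻¹ = g * (a * t * a⁻¹) * g⁻¹ by group, hat]
  have hss : s * s = 1 := by rw [hsdef, show g * t * g⁻¹ * (g * t * g⁻¹) = g * (t * t) * g⁻¹ by group, htt]; group
  rw [MonoidHom.map_zpowers,
    show (MulAut.conj (q g)).toMonoidHom (q a) = q b by rw [hbdef, map_mul, map_mul, map_inv]; rfl]
  have hbb : q b * q b = 1 := by
    rw [hbdef, map_mul, map_mul, map_inv, show q g * q a * (q g)⁻¹ * (q g * q a * (q g)⁻¹) = q g * (q a * q a) * (q g)⁻¹ by group,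
      haa]; group
  -- two commuting-type configurations give 2-groups
  have conf : ∀ (A B t s : G), t ∈ V → s ∈ V → t * t = 1 → s * s = 1 →
      (∀ v ∈ V, A * v * A⁻¹ = v ∨ A * v * A⁻¹ = v * t) → (∀ v ∈ V, B * v * B⁻¹ = v ∨ B * v * B⁻¹ = v * s) →
      A * t * A⁻¹ = t → B * s * B⁻¹ = s → A * s * A⁻¹ = s →
      (q A * q B) ^ 4 = 1 := by
    intro A B t s ht hs htt hss hA hB hAt hBs hAs
    rw [← map_mul, ← map_pow]
    refine hmem _ fun v hv => ?_
    set c := A * B
    have hc : ∀ v ∈ V, c * v * c⁻¹ = v ∨ c * v * c⁻¹ = v * t ∨ c * v * c⁻¹ = v * s ∨ c * v * c⁻¹ = v * (t * s) := by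
      intro v hv
      rw [show c * v * c⁻¹ = A * (B * v * B⁻¹) * A⁻¹ by simp only [c]; group]
      rcases hB v hv with h | h <;> rw [h]
      · rcases hA v hv with h' | h'
        · exact Or.inl h'
        · exact Or.inr (Or.inl h')
      · rw [show A * (v * s) * A⁻¹ = A * v * A⁻¹ * (A * s * A⁻¹) by group, hAs]
        rcases hA v hv with h' | h' <;> rw [h']
        · exact Or.inr (Or.inr (Or.inl rfl))
        · exact Or.inr (Or.inr (Or.inr (mul_assoc _ _ _)))
    have hcs : c * s * c⁻¹ = s := by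
      rw [show c * s * c⁻¹ = A * (B * s * B⁻¹) * A⁻¹ by simp only [c]; group, hBs, hAs]
    have hct : c * t * c⁻¹ = t ∨ c * t * c⁻¹ = t * s := by
      rw [show c * t * c⁻¹ = A * (B * t * B⁻¹) * A⁻¹ by simp only [c]; group]
      rcases hB t ht with h | h <;> rw [h]
      · exact Or.inl hAt
      · refine Or.inr ?_
        rw [show A * (t * s) * A⁻¹ = A * t * A⁻¹ * (A * s * A⁻¹) by group, hAt, hAs]
    have hc2 : ∀ v ∈ V, c ^ 2 * v * (c ^ 2)⁻¹ = v ∨ c ^ 2 * v * (c ^ 2)⁻¹ = v * s := by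
      intro v hv
      rw [show c ^ 2 * v * (c ^ 2)⁻¹ = c * (c * v * c⁻¹) * c⁻¹ by simp [pow_two, mul_assoc]]
      rcases hc v hv with h | h | h | h <;> rw [h]
      · exact Or.inl h
      · rw [show c * (v * t) * c⁻¹ = c * v * c⁻¹ * (c * t * c⁻¹) by group, h]
        rcases hct with h' | h' <;> rw [h', mul_assoc]
        · exact Or.inl (by rw [htt, mul_one])
        · exact Or.inr (by rw [← mul_assoc t, htt, one_mul])
      · rw [show c * (v * s) * c⁻¹ = c * v * c⁻¹ * (c * s * c⁻¹) by group, h, hcs, mul_assoc, hss, mul_one]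
        exact Or.inl rfl
      · rw [show c * (v * (t * s)) * c⁻¹ = c * v * c⁻¹ * ((c * t * c⁻¹) * (c * s * c⁻¹)) by group, h, hcs]
        have hts := hmulV t ht s hs
        rcases hct with h' | h' <;> rw [h', mul_assoc]
        · refine Or.inl ?_
          rw [show t * s * (t * s) = t * (s * t) * s by group, ← hts,
            show t * (t * s) * s = (t * t) * (s * s) by group, htt, hss, mul_one, mul_one]
        · refine Or.inr ?_
          rw [show t * s * (t * s * s) = t * (s * t) * (s * s) by group, ← hts,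
            show t * (t * s) * (s * s) = (t * t) * s * (s * s) by group, htt, hss, one_mul, mul_one]
    rw [show (c ^ 4) * v * (c ^ 4)⁻¹ = c ^ 2 * (c ^ 2 * v * (c ^ 2)⁻¹) * (c ^ 2)⁻¹ by group]
    rcases hc2 v hv with h | h <;> rw [h]
    · exact h
    · have hs2 : c ^ 2 * s * (c ^ 2)⁻¹ = s := by
        rw [show c ^ 2 * s * (c ^ 2)⁻¹ = c * (c * s * c⁻¹) * c⁻¹ by simp [pow_two, mul_assoc], hcs, hcs]
      rw [show c ^ 2 * (v * s) * (c ^ 2)⁻¹ = c ^ 2 * v * (c ^ 2)⁻¹ * (c ^ 2 * s * (c ^ 2)⁻¹) by group, h, hs2,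
        mul_assoc, hss, mul_one]
  have hfour : (q a * q b) ^ 4 = 1 := by
    rcases hval s hsV with h1 | h1
    · exact conf a b t s htV hsV htt hss hval hbval hat hbs h1
    rcases hbval t htV with h2 | h2
    · have h3 := conf b a s t hsV htV hss htt hbval hval hbs hat h2
      have e1 : (q a)⁻¹ = q a := inv_eq_of_mul_eq_one_left haa
      have e2 : (q b)⁻¹ = q b := inv_eq_of_mul_eq_one_left hbb
      rw [← e1, ← e2, ← mul_inv_rev, inv_pow, h3, inv_one]
    -- a four group
    exfalso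
    have hts : t * s = s * t := hmulV t htV s hsV
    have hs1 : s ≠ 1 := fun h => ht1 (by
      have := congrArg (fun x => g⁻¹ * x * g) (hsdef.symm.trans h)
      simpa [mul_assoc] using this)
    have hne' : t ≠ s := fun h => ht1 (by rw [← h, hat] at h1; exact mul_eq_left.mp h1.symm)
    let W : Subgroup G :=
      { carrier := {x | x = 1 ∨ x = t ∨ x = s ∨ x = t * s}
        one_mem' := Or.inl rfl
        mul_mem' := by
          have e1 : t * (t * s) = s := by rw [← mul_assoc, htt, one_mul]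
          have e2 : t * s * t = s := by rw [hts, mul_assoc, htt, mul_one]
          have e3 : t * s * s = t := by rw [mul_assoc, hss, mul_one]
          have e4 : s * (t * s) = t := by rw [hts, ← mul_assoc, hss, one_mul]
          have e5 : t * s * (t * s) = 1 := by rw [mul_assoc, e4, htt]
          rintro x y (rfl | rfl | rfl | rfl) (rfl | rfl | rfl | rfl) <;>
            simp [htt, hss, e1, e2, e3, e4, e5, ← hts]
        inv_mem' := by
          have e5 : (t * s)⁻¹ = t * s := inv_eq_of_mul_eq_one_left (by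
            rw [mul_assoc, ← mul_assoc s, ← hts, mul_assoc t s, hss, mul_one, htt])
          rintro x (rfl | rfl | rfl | rfl) <;>
            simp [inv_eq_of_mul_eq_one_left htt, inv_eq_of_mul_eq_one_left hss, e5] }
    have hWcard : Nat.card ↥W = 4 := by
      classical
      show Nat.card ↥({1, t, s, t * s} : Set G) = 4
      have h3 : t * s ≠ 1 := fun h => hne' (by rw [← inv_eq_of_mul_eq_one_left htt]; exact inv_eq_of_mul_eq_one_right h)
      have h4 : t * s ≠ t := fun h => hs1 (mul_eq_left.mp h)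
      have h5 : t * s ≠ s := fun h => ht1 (mul_eq_right.mp h)
      rw [Nat.card_coe_set_eq, Set.ncard_eq_toFinset_card']
      simp [ht1.symm, hs1.symm, h3.symm, hne', h4.symm, h5.symm]
    have hWV : ∀ x ∈ W, x ∈ V := by
      rintro x (rfl | rfl | rfl | rfl)
      exacts [one_mem V, htV, hsV, mul_mem htV hsV]
    have hNW : ∀ x : G, (x * t * x⁻¹ ∈ W ∧ x * s * x⁻¹ ∈ W) → x ∈ Subgroup.normalizer (W : Set G) := by
      rintro x ⟨h3, h4⟩
      refine Subgroup.mem_normalizer_fintype fun y hy => ?_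
      rcases hy with rfl | rfl | rfl | rfl
      · simp [one_mem W]
      · exact h3
      · exact h4
      · rw [show x * (t * s) * x⁻¹ = x * t * x⁻¹ * (x * s * x⁻¹) by group]; exact W.mul_mem h3 h4
    have hsW : s ∈ W := Or.inr (Or.inr (Or.inl rfl))
    have htW : t ∈ W := Or.inr (Or.inl rfl)
    have htsW : t * s ∈ W := Or.inr (Or.inr (Or.inr rfl))
    have hab1 : a * b * t * (a * b)⁻¹ = s := by
      rw [show a * b * t * (a * b)⁻¹ = a * (b * t * b⁻¹) * a⁻¹ by group, h2,
        show a * (t * s) * a⁻¹ = a * t * a⁻¹ * (a * s * a⁻¹) by group, hat, h1, ← hts, ← mul_assoc, htt, one_mul]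
    have hab2 : a * b * s * (a * b)⁻¹ = t * s := by
      rw [show a * b * s * (a * b)⁻¹ = a * (b * s * b⁻¹) * a⁻¹ by group, hbs, h1, hts]
    exact not_s4Free_of_four_group hWcard htW hsW ht1 hs1 hne'
      (fun u hu => by
        rcases hu with rfl | rfl | rfl | rfl
        exacts [one_mul 1, htt, hss, by rw [mul_assoc, ← mul_assoc s, ← hts, mul_assoc t s, hss, mul_one, htt]])
      (hNW a ⟨by rw [hat]; exact htW, by rw [h1, ← hts]; exact htsW⟩)
      (hNW (a * b) ⟨by rw [hab1]; exact hsW, by rw [hab2]; exact htsW⟩)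
      hat (by rw [h1, ← hts]) hab1 hab2 hS4
  -- a dihedral 2-group
  have e1 : (q a)⁻¹ = q a := inv_eq_of_mul_eq_one_left haa
  have e2 : (q b)⁻¹ = q b := inv_eq_of_mul_eq_one_left hbb
  set C := Subgroup.zpowers (q a * q b)
  have hC : IsPGroup 2 ↥C := by
    rintro ⟨x, hx⟩
    obtain ⟨i, rfl⟩ := Subgroup.mem_zpowers_iff.mp hx
    refine ⟨2, Subtype.ext ?_⟩
    show ((q a * q b) ^ i) ^ 4 = 1
    rw [← zpow_natCast, ← zpow_mul, mul_comm i, zpow_mul, zpow_natCast, hfour, one_zpow]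
  have hA : IsPGroup 2 ↥(Subgroup.zpowers (q a)) := by
    rintro ⟨x, hx⟩
    obtain ⟨i, rfl⟩ := Subgroup.mem_zpowers_iff.mp hx
    refine ⟨1, Subtype.ext ?_⟩
    show ((q a) ^ i) ^ 2 = 1
    rw [← zpow_natCast, ← zpow_mul, mul_comm i, zpow_mul, zpow_natCast, sq, haa, one_zpow]
  have hnorm : Subgroup.zpowers (q a) ≤ Subgroup.normalizer (C : Set (G ⧸ K)) := by
    refine Subgroup.zpowers_le.mpr (Subgroup.mem_normalizer_fintype fun y hy => ?_)
    obtain ⟨i, rfl⟩ := Subgroup.mem_zpowers_iff.mp hy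
    rw [← conj_zpow]
    refine C.zpow_mem ?_ i
    rw [show q a * (q a * q b) * (q a)⁻¹ = (q a * q a) * q b * (q a)⁻¹ by group, haa, one_mul]
    have h : q b * (q a)⁻¹ = (q a * q b)⁻¹ := by rw [mul_inv_rev, e2]
    rw [h]
    exact C.inv_mem (Subgroup.mem_zpowers _)
  refine (hA.to_sup_of_normal_right' hC hnorm).to_le (sup_le le_sup_left (Subgroup.zpowers_le.mpr ?_))
  have h : q b = (q a)⁻¹ * (q a * q b) := by group
  rw [h]
  exact mul_mem (Subgroup.mem_sup_left (inv_mem (Subgroup.mem_zpowers _))) (Subgroup.mem_sup_right (Subgroup.mem_zpowers _))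

/-- The members of `maxAb` lie in a subgroup of `P` iff its Thompson subgroup is the same. -/
theorem J_eq_of_forall_le {P R : Subgroup G} (hRP : R ≤ P) (h : ∀ A ∈ maxAb 0 P, A ≤ R) : J 0 R = J 0 P := by
  obtain ⟨A₀, hA₀⟩ := exists_maxAb 0 P
  have heq : maxAb 0 R = maxAb 0 P := by
    ext A
    constructor
    · exact fun hA => ⟨hA.1.trans hRP, hA.2.1, fun B hB hBab =>
        (hA₀.2.2 B hB hBab).trans (hA.2.2 A₀ (h A₀ hA₀) hA₀.2.1)⟩
    · exact fun hA => ⟨h A hA, hA.2.1, fun B hB => hA.2.2 B (hB.trans hRP)⟩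
  rw [J, J, heq]

/-- **Glauberman**: central elements in `O_p` fixed by the normalizer of `J(P)` are central, if `p` is odd or `G`
has no section `Sym(4)`. -/
theorem mem_center_of_normalizer_J : ∀ (n : ℕ) (m : ℕ) {G : Type*} [Group G] [Finite G], Nat.card G = n →
    ∀ {p : ℕ} [Fact p.Prime], (p ≠ 2 ∨ S4Free G) → ∀ (P : Sylow p G) (z : G), orderOf z = m →
      z ∈ Cfsg.pCore p G → (∀ s ∈ (P : Subgroup G), s * z = z * s) →
      (∀ x ∈ Subgroup.normalizer (J 0 (P : Subgroup G) : Set G), x * z = z * x) → z ∈ Subgroup.center G := by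
  intro n
  induction n using Nat.strong_induction_on with
  | _ n ihn =>
  intro m
  induction m using Nat.strong_induction_on with
  | _ m ihm =>
  intro G _ _ hn p hp hp2 P z hm hzQ hzP hzN
  classical
  rcases eq_or_ne z 1 with rfl | hz1
  · exact one_mem _
  set Q := Cfsg.pCore p G
  haveI hQn : Q.Normal := Cfsg.pCore_normal p G
  have hQP : Q ≤ (P : Subgroup G) := CfsgLib.Core.pCore_le_sylow P
  obtain ⟨l, hl⟩ : ∃ l, orderOf z = p ^ l := by
    obtain ⟨l, hl⟩ := IsPGroup.iff_orderOf.mp (CfsgLib.Core.isPGroup_pCore p) (⟨z, hzQ⟩ : ↥Q)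
    exact ⟨l, by rwa [Subgroup.orderOf_mk] at hl⟩
  have hl0 : l ≠ 0 := fun h => hz1 (orderOf_eq_one_iff.mp (by rw [hl, h, pow_zero]))
  have hzp : z ^ p ∈ Subgroup.center G := by
    refine ihm _ ?_ hn hp2 P (z ^ p) rfl (pow_mem hzQ p)
      (fun s hs => ((show Commute s z from hzP s hs).pow_right p).eq)
      (fun x hx => ((show Commute x z from hzN x hx).pow_right p).eq)
    rw [← hm, orderOf_pow' _ hp.out.ne_zero, hl, Nat.gcd_eq_right (dvd_pow_self p hl0)]
    exact Nat.div_lt_self (Nat.pow_pos hp.out.pos) hp.out.one_lt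
  set V := Subgroup.normalClosure ({z} : Set G)
  haveI : V.Normal := Subgroup.normalClosure_normal
  have hzV : z ∈ V := Subgroup.subset_normalClosure rfl
  have hconjV : ∀ g : G, ∀ q ∈ Q, q * (g * z * g⁻¹) = g * z * g⁻¹ * q := fun g q hq => by
    have h := hzP _ (hQP (hQn.conj_mem' q hq g))
    calc q * (g * z * g⁻¹) = g * ((g⁻¹ * q * g) * z) * g⁻¹ := by group
      _ = g * (z * (g⁻¹ * q * g)) * g⁻¹ := by rw [h]
      _ = _ := by group
  have hVc : ∀ v ∈ V, ∀ q ∈ Q, q * v = v * q := by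
    have hle : V ≤ Subgroup.centralizer (Q : Set G) := by
      refine (Subgroup.closure_le _).mpr fun x hx => ?_
      obtain ⟨y, hy, hyx⟩ := Group.mem_conjugatesOfSet_iff.mp hx
      obtain ⟨g, rfl⟩ := isConj_iff.mp hyx
      rw [Set.mem_singleton_iff.mp hy]
      exact Subgroup.mem_centralizer_iff.mpr (hconjV g)
    exact fun v hv q hq => Subgroup.mem_centralizer_iff.mp (hle hv) q hq
  have hVQ : V ≤ Q := Subgroup.normalClosure_le_normal (Set.singleton_subset_iff.mpr hzQ)
  haveI : IsMulCommutative ↥V := ⟨⟨fun x y => Subtype.ext (hVc y y.2 x (hVQ x.2))⟩⟩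
  set K := Subgroup.centralizer (V : Set G)
  have hKz : ∀ x ∈ K, x * z = z * x := fun x hx => (Subgroup.mem_centralizer_iff.mp hx z hzV).symm
  by_cases hJ : ∀ A ∈ maxAb 0 (P : Subgroup G), A ≤ K
  · -- Frattini
    set R := (P : Subgroup G) ⊓ K
    have hidx : ¬ p ∣ R.relIndex K :=
      sylow_inf_normal (H := ⊤) (by rw [Subgroup.relIndex_top_right]; exact P.not_dvd_index) le_top le_top
        (by rw [Subgroup.normalizer_eq_top_iff.mpr inferInstance])
    let RK : Sylow p ↥K := ((P.2.to_le inf_le_left : IsPGroup p ↥R).comap_subtype).toSylow hidx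
    have hfr : Subgroup.normalizer (((RK : Subgroup ↥K).map K.subtype : Subgroup G) : Set G) ⊔ K = ⊤ :=
      Sylow.normalizer_sup_eq_top RK
    rw [show (RK : Subgroup ↥K).map K.subtype = R from Subgroup.map_subgroupOf_eq_of_le inf_le_right] at hfr
    refine Subgroup.mem_center_iff.mpr fun x => ?_
    obtain ⟨u, hu, k, hk, rfl⟩ := Subgroup.mem_sup_of_normal_right.mp (hfr.ge (Subgroup.mem_top x))
    have hu' : u * z = z * u := hzN u (by
      rw [← J_eq_of_forall_le (inf_le_left : R ≤ _) fun A hA => le_inf hA.1 (hJ A hA)]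
      exact normalizer_le_normalizer_J 0 R hu)
    exact (show Commute u z from hu').mul_left (hKz k hk) |>.eq
  push Not at hJ
  obtain ⟨A₁, hA₁, hA₁K⟩ := hJ
  have hVP : V ≤ (P : Subgroup G) := hVQ.trans hQP
  have hVK : V ≤ K := fun v hv => Subgroup.mem_centralizer_iff.mpr fun w hw => hVc v hv w (hVQ hw)
  obtain ⟨A, hA, hAK', hquad⟩ := exists_quadratic_maxAb P (Q := (P : Subgroup G) ⊓ K) (le_inf hVP hVK) inf_le_left
    (fun v hv q hq => (Subgroup.mem_centralizer_iff.mp hq.2 v hv).symm) ⟨A₁, hA₁, fun h => hA₁K (h.trans inf_le_right)⟩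
  have hAK : ¬ A ≤ K := fun h => hAK' (le_inf hA.1 h)
  -- normal `p`-subgroups act trivially
  have hO : ∀ R : Subgroup G, R.Normal → (∀ r ∈ R, r * z = z * r) → R ≤ K := fun R hR h => by
    refine Subgroup.le_centralizer_iff.mp ?_
    exact Subgroup.normalClosure_le_normal (Set.singleton_subset_iff.mpr (Subgroup.mem_centralizer_iff.mpr h))
  -- a good subgroup
  obtain ⟨B, hBg, hBP, hBK⟩ : ∃ B, NormGood p V B ∧ B ≤ (P : Subgroup G) ∧ ¬ B ≤ K := by
    by_cases hpt : p = 2
    swap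
    · exact ⟨A, normGood_quadratic hpt hquad, hA.1, hAK⟩
    subst hpt
    have hS4 : S4Free G := hp2.resolve_left (fun h => h rfl)
    have hab := hA.2.1.1
    let good : Subgroup G → Prop := fun B => B ≤ A ∧ ¬ B ≤ K ∧
      Nat.card ↥V * Nat.card ↥(B ⊓ K) ≤ Nat.card ↥(V ⊓ Subgroup.centralizer (B : Set G)) * Nat.card ↥B
    have hgA : good A := by
      refine ⟨le_rfl, hAK, ?_⟩
      have hEab : AbExp 0 (A ⊓ K ⊔ V) := abExp_sup ⟨fun x hx y hy => hab x hx.1 y hy.1, fun x _ => pow_zero x⟩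
        ⟨fun x hx y hy => hVc y hy x (hVQ hx), fun x _ => pow_zero x⟩
        fun x hx v hv => (Subgroup.mem_centralizer_iff.mp hx.2 v hv).symm
      have h1 := hA.2.2 _ (sup_le (inf_le_left.trans hA.1) hVP) hEab
      have h2 : Nat.card ↥(A ⊓ K ⊔ V) * Nat.card ↥(A ⊓ K ⊓ V) = Nat.card ↥(A ⊓ K) * Nat.card ↥V := by
        have e := Subgroup.relIndex_sup_right (H := A ⊓ K) (K := V)
        have e1 := Subgroup.relIndex_mul_relIndex ⊥ V (A ⊓ K ⊔ V) bot_le le_sup_right
        have e2 := Subgroup.relIndex_mul_relIndex ⊥ (A ⊓ K ⊓ V) (A ⊓ K) bot_le inf_le_left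
        rw [Subgroup.relIndex_bot_left, Subgroup.relIndex_bot_left, e] at e1
        rw [Subgroup.relIndex_bot_left, Subgroup.relIndex_bot_left, Subgroup.inf_relIndex_left] at e2
        rw [← e1, ← e2]; ring
      have h3 : Nat.card ↥(A ⊓ K ⊓ V) ≤ Nat.card ↥(V ⊓ Subgroup.centralizer (A : Set G)) :=
        Subgroup.card_le_of_le fun x hx => ⟨hx.2, Subgroup.mem_centralizer_iff.mpr fun y hy => hab y hy x hx.1.1⟩
      calc Nat.card ↥V * Nat.card ↥(A ⊓ K) = Nat.card ↥(A ⊓ K ⊓ V) * Nat.card ↥(A ⊓ K ⊔ V) := by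
            rw [mul_comm (Nat.card ↥(A ⊓ K ⊓ V)), h2, mul_comm]
        _ ≤ _ := Nat.mul_le_mul h3 h1
    obtain ⟨B, ⟨hBA, hBK, hBi⟩, hmin⟩ := Set.exists_min_image {B | good B} (fun B => Nat.card ↥B)
      (Set.toFinite _) ⟨A, hgA⟩
    have hpB : IsPGroup 2 ↥B := P.2.to_le (hBA.trans hA.1)
    refine ⟨B, ?_, hBA.trans hA.1, hBK⟩
    have hnotrans : Nat.card ↥B ≠ 2 * Nat.card ↥(B ⊓ K) := by
      intro hB2
      obtain ⟨a, haB, haK⟩ := SetLike.not_le_iff_exists.mp hBK
      refine haK (mem_of_transvection hS4 ?_ ?_)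
      · set Ca := V ⊓ Subgroup.centralizer ({a} : Set G)
        have hle : V ⊓ Subgroup.centralizer (B : Set G) ≤ Ca := fun x hx =>
          ⟨hx.1, Subgroup.mem_centralizer_iff.mpr fun y hy => by
            rw [Set.mem_singleton_iff.mp hy]; exact Subgroup.mem_centralizer_iff.mp hx.2 a haB⟩
        have h1 : Nat.card ↥V ≤ 2 * Nat.card ↥Ca := by
          refine le_trans (Nat.le_of_mul_le_mul_right ?_ (Nat.card_pos (α := ↥(B ⊓ K))))
            (Nat.mul_le_mul_left 2 (Subgroup.card_le_of_le hle))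
          refine hBi.trans (le_of_eq ?_)
          rw [hB2]; ring
        intro u hu v hv hau hav
        have hidx : (Ca.subgroupOf V).index = 2 := by
          have h2 := (Ca.subgroupOf V).card_mul_index
          rw [Nat.card_congr (Subgroup.subgroupOfEquivOfLe (inf_le_left : Ca ≤ V)).toEquiv] at h2
          have h3 : (Ca.subgroupOf V).index ≠ 1 := fun h => hau (by
            have := Subgroup.mem_subgroupOf.mp ((Subgroup.index_eq_one.mp h).ge (Subgroup.mem_top ⟨u, hu⟩))
            exact Subgroup.mem_centralizer_iff.mp this.2 a rfl)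
          have h4 : (Ca.subgroupOf V).index ≠ 0 := Subgroup.index_ne_zero_of_finite
          have h5 : (Ca.subgroupOf V).index ≤ 2 := by
            refine Nat.le_of_mul_le_mul_left ?_ (Nat.card_pos (α := ↥Ca))
            rw [h2, mul_comm]; exact h1
          omega
        have hnot : ∀ w : ↥V, a * (w : G) ≠ w * a → w ∉ Ca.subgroupOf V := fun w hw h =>
          hw (Subgroup.mem_centralizer_iff.mp (Subgroup.mem_subgroupOf.mp h).2 a rfl)
        have h6 := (Subgroup.mul_mem_iff_of_index_two hidx (a := ⟨u, hu⟩) (b := (⟨v, hv⟩ : ↥V)⁻¹)).mpr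
          (iff_of_false (hnot _ hau) fun h => hnot _ hav (by simpa using inv_mem h))
        exact Subgroup.mem_centralizer_iff.mp (Subgroup.mem_subgroupOf.mp h6).2 a rfl
      · intro N hN hNp
        set q := QuotientGroup.mk' K
        let PN : Sylow 2 (G ⧸ K) := P.mapSurjective (QuotientGroup.mk'_surjective K)
        have hle : N ≤ (P : Subgroup G).map q := (CfsgLib.Core.le_pCore hN hNp).trans (CfsgLib.Core.pCore_le_sylow PN)
        have hR : N.comap q ≤ K := hO _ (hN.comap q) fun r hr => by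
          obtain ⟨s, hs, hsr⟩ := hle hr
          have hk : s⁻¹ * r ∈ K := QuotientGroup.eq.mp hsr
          have := (show Commute s z from hzP s hs).mul_left (hKz _ hk)
          rw [mul_inv_cancel_left] at this
          exact this.eq
        refine (Subgroup.eq_bot_iff_forall _).mpr fun x hx => ?_
        obtain ⟨y, rfl⟩ := QuotientGroup.mk'_surjective K x
        exact (QuotientGroup.eq_one_iff y).mpr (hR hx)
    intro H a w ha haH hap hgen hw
    refine ⟨w, ?_⟩
    set B' := B ⊓ H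
    have hcard : Nat.card ↥B = 2 * Nat.card ↥B' := by
      have hidx : (B'.subgroupOf B).index = 2 := by
        refine Subgroup.index_eq_two_iff.mpr ⟨⟨a, ha⟩, fun b => ?_⟩
        have hb' : ∀ x : ↥B, x ∈ B'.subgroupOf B ↔ (x : G) ∈ H := fun x =>
          ⟨fun h => (Subgroup.mem_subgroupOf.mp h).2, fun h => Subgroup.mem_subgroupOf.mpr (Subgroup.mem_inf.mpr ⟨x.2, h⟩)⟩
        rw [hb', hb', Subgroup.coe_mul]
        obtain ⟨i, hi⟩ := hgen b b.2
        have hpow : ∀ j, a ^ (2 * j) ∈ H := fun j => by rw [pow_mul]; exact H.pow_mem hap j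
        have hcomm : (b : G) * a = a * b := hab _ (hBA b.2) a (hBA ha)
        rcases Nat.even_or_odd i with ⟨j, rfl⟩ | ⟨j, rfl⟩
        · have hbH : (b : G) ∈ H := by
            have := H.mul_mem (hpow j) hi
            rwa [show j + j = 2 * j by ring, mul_inv_cancel_left] at this
          exact Or.inr ⟨hbH, fun h => haH (by simpa using H.mul_mem (H.inv_mem hbH) h)⟩
        · have hbH : (b : G) * a ∈ H := by
            have := H.mul_mem (hpow (j + 1)) hi
            rw [show a ^ (2 * (j + 1)) * ((a ^ (2 * j + 1))⁻¹ * b) = a * b by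
              rw [show 2 * (j + 1) = 1 + (2 * j + 1) by ring, pow_add, pow_one]; group] at this
            rwa [hcomm]
          exact Or.inl ⟨hbH, fun h => haH (by simpa using H.mul_mem (H.inv_mem h) hbH)⟩
      have h1 := (B'.subgroupOf B).card_mul_index
      rw [Nat.card_congr (Subgroup.subgroupOfEquivOfLe (inf_le_left : B' ≤ B)).toEquiv, hidx] at h1
      rw [← h1, mul_comm]
    have hB'K : ¬ B' ≤ K := fun h => hnotrans (by
      have h2 : Nat.card ↥B' ≤ Nat.card ↥(B ⊓ K) := Subgroup.card_le_of_le (le_inf inf_le_left h)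
      obtain ⟨c, hc⟩ := Subgroup.card_dvd_of_le (inf_le_left : B ⊓ K ≤ B)
      have h3 : Nat.card ↥(B ⊓ K) < Nat.card ↥B := lt_of_le_of_ne (Subgroup.card_le_of_le inf_le_left) fun he =>
        hBK ((Subgroup.eq_of_le_of_card_ge inf_le_left he.ge).ge.trans inf_le_right)
      have hc2 : c = 2 := by
        have : Nat.card ↥(B ⊓ K) * c ≤ Nat.card ↥(B ⊓ K) * 2 := by rw [← hc, hcard]; omega
        have h4 := Nat.le_of_mul_le_mul_left this Nat.card_pos
        rcases c with _ | _ | c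
        · exact absurd (hc.trans (mul_zero _)) Nat.card_pos.ne'
        · simp only [zero_add, mul_one] at hc; omega
        · omega
      rw [hc, hc2, mul_comm])
    have hlt : Nat.card ↥(V ⊓ Subgroup.centralizer (B' : Set G)) * Nat.card ↥B' <
        Nat.card ↥V * Nat.card ↥(B' ⊓ K) := by
      by_contra h
      push Not at h
      have := hmin B' ⟨inf_le_left.trans hBA, hB'K, h⟩
      rw [hcard] at this
      have : 0 < Nat.card ↥B' := Nat.card_pos
      omega
    have h2dvd : ∀ X : Subgroup G, X ≤ (P : Subgroup G) → ∃ i, Nat.card ↥X = 2 ^ i := fun X hX =>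
      IsPGroup.iff_card.mp (P.2.to_le hX)
    obtain ⟨i₁, e₁⟩ := h2dvd (V ⊓ Subgroup.centralizer (B' : Set G)) (inf_le_left.trans hVP)
    obtain ⟨i₂, e₂⟩ := h2dvd B' (inf_le_left.trans (hBA.trans hA.1))
    obtain ⟨i₃, e₃⟩ := h2dvd V hVP
    obtain ⟨i₄, e₄⟩ := h2dvd (B' ⊓ K) ((inf_le_left.trans inf_le_left).trans (hBA.trans hA.1))
    rw [e₁, e₂, e₃, e₄, ← pow_add, ← pow_add, Nat.pow_lt_pow_iff_right (by norm_num)] at hlt
    have hle : Nat.card ↥(V ⊓ Subgroup.centralizer (B' : Set G)) ≤ Nat.card ↥(V ⊓ Subgroup.centralizer (B : Set G)) := by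
      refine Nat.le_of_mul_le_mul_right ?_ (Nat.card_pos (α := ↥B))
      calc _ ≤ Nat.card ↥V * Nat.card ↥(B' ⊓ K) := by
            rw [hcard, e₁, e₂, e₃, e₄, ← mul_assoc, mul_comm (2 ^ i₁) 2, ← pow_succ', ← pow_add, ← pow_add]
            exact Nat.pow_le_pow_right two_pos (by omega)
        _ ≤ Nat.card ↥V * Nat.card ↥(B ⊓ K) :=
            Nat.mul_le_mul_left _ (Subgroup.card_le_of_le (inf_le_inf_right K inf_le_left))
        _ ≤ _ := hBi
    have hwC : (w : G) ∈ V ⊓ Subgroup.centralizer (B' : Set G) :=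
      ⟨w.2, Subgroup.mem_centralizer_iff.mpr fun y hy => conjNormal_eq_self_iff.mp (hw y hy.2)⟩
    rw [← Subgroup.eq_of_le_of_card_ge (inf_le_inf_left V (Subgroup.centralizer_le (fun y hy => hy.1)) :
      V ⊓ Subgroup.centralizer (B : Set G) ≤ V ⊓ Subgroup.centralizer (B' : Set G)) hle] at hwC
    have haw : MulAut.conjNormal a w = w :=
      conjNormal_eq_self_iff.mpr (Subgroup.mem_centralizer_iff.mp hwC.2 a ha)
    simp [Finset.prod_range_succ, haw, sq]
  -- the group generated by the good subgroups of `P`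
  set 𝒟 := {B : Subgroup G | NormGood p V B ∧ B ≤ (P : Subgroup G)}
  set D := sSup 𝒟
  have hDP : D ≤ (P : Subgroup G) := sSup_le fun B hB => hB.2
  have hDn : ∀ g : G, (∀ B ∈ 𝒟, B.map (MulAut.conj g).toMonoidHom ≤ (P : Subgroup G)) →
      g ∈ Subgroup.normalizer (D : Set G) := by
    intro g hg
    have hle : D.map (MulAut.conj g).toMonoidHom ≤ D := by
      rw [Subgroup.map_le_iff_le_comap]
      exact sSup_le fun B hB => Subgroup.map_le_iff_le_comap.mp (le_sSup ⟨normGood_conj hB.1 g, hg B hB⟩)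
    exact mem_normalizer_of_conj_map_eq (Subgroup.eq_of_le_of_card_ge hle
      (by rw [Subgroup.card_map_of_injective (MulAut.conj g).injective]))
  set N := Subgroup.normalizer (D : Set G)
  have hPN : (P : Subgroup G) ≤ N := fun s hs => hDn s fun B hB => by
    rintro _ ⟨b, hb, rfl⟩
    exact mul_mem (mul_mem hs (hB.2 hb)) (inv_mem hs)
  have hNtop : N ≠ ⊤ := fun h => hBK ((le_sSup (show B ∈ 𝒟 from ⟨hBg, hBP⟩)).trans
    (hO D (Subgroup.normalizer_eq_top_iff.mp h) fun r hr => hzP r (hDP hr)))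
  -- elements of `N` fix `z`
  have hNz : ∀ x ∈ N, x * z = z * x := by
    have hQN : Q ≤ N := hQP.trans hPN
    let PN : Sylow p ↥N := P.subtype hPN
    have hJN : (J 0 (PN : Subgroup ↥N)).map N.subtype = J 0 (P : Subgroup G) := by
      rw [J_map 0 (injOn_of_injective N.subtype_injective _)]
      exact congrArg (J 0) (Subgroup.map_subgroupOf_eq_of_le hPN)
    have hcen : (⟨z, hQN hzQ⟩ : ↥N) ∈ Subgroup.center ↥N := by
      refine ihn (Nat.card ↥N) ?_ _ rfl ?_ PN ⟨z, hQN hzQ⟩ rfl ?_ (fun s hs => Subtype.ext (hzP s hs)) fun x hx => ?_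
      · rw [← hn]
        exact lt_of_le_of_ne (Subgroup.card_le_card_group N) fun h0 => hNtop ((Subgroup.card_eq_iff_eq_top N).mp h0)
      · exact hp2.imp_right fun h => h.subgroup N
      · exact CfsgLib.Core.le_pCore (N := Q.subgroupOf N) inferInstance
          (CfsgLib.Core.isPGroup_pCore p).comap_subtype (Subgroup.mem_subgroupOf.mpr hzQ)
      · refine Subtype.ext (hzN x ?_)
        rw [← hJN]
        exact Subgroup.le_normalizer_map N.subtype ⟨x, hx, rfl⟩
    exact fun x hx => congrArg Subtype.val (Subgroup.mem_center_iff.mp hcen ⟨x, hx⟩)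
  -- other conjugates are moved by some good subgroup
  let M : Subgroup G := Subgroup.centralizer ({z} : Set G)
  have hMz : ∀ x, x ∈ M ↔ z * x = x * z := fun x => by simp [M, Subgroup.mem_centralizer_iff]
  have hPM : (P : Subgroup G) ≤ M := fun s hs => (hMz s).mpr (hzP s hs).symm
  have hmoved : ∀ g : G, g * z * g⁻¹ ≠ z →
      ∃ B ∈ 𝒟, ∃ b ∈ B, b * (g * z * g⁻¹) ≠ g * z * g⁻¹ * b := by
    intro g hg
    by_contra h
    push Not at h
    have hDM : D.map (MulAut.conj g⁻¹).toMonoidHom ≤ M := by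
      rw [Subgroup.map_le_iff_le_comap]
      refine sSup_le fun B hB b hb => (hMz _).mpr ?_
      have := h B hB b hb
      show z * (g⁻¹ * b * g⁻¹⁻¹) = g⁻¹ * b * g⁻¹⁻¹ * z
      calc z * (g⁻¹ * b * g⁻¹⁻¹) = g⁻¹ * (g * z * g⁻¹ * b) * g := by group
        _ = g⁻¹ * (b * (g * z * g⁻¹)) * g := by rw [this]
        _ = _ := by group
    obtain ⟨m, hm, hmle⟩ : ∃ m ∈ M, (D.map (MulAut.conj g⁻¹).toMonoidHom).map (MulAut.conj m).toMonoidHom ≤ P := by
      obtain ⟨R, hR⟩ := (((P.2.to_le hDP).map (MulAut.conj g⁻¹).toMonoidHom).comap_subtype (K := M)).exists_le_sylow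
      obtain ⟨m, hm⟩ := MulAction.exists_smul_eq ↥M R (P.subtype hPM)
      refine ⟨m, m.2, ?_⟩
      rintro _ ⟨x, hx, rfl⟩
      have hxR : (⟨x, hDM hx⟩ : ↥M) ∈ (R : Subgroup ↥M) := hR hx
      have h1 : m * ⟨x, hDM hx⟩ * m⁻¹ ∈ ((m • R : Sylow p ↥M) : Subgroup ↥M) := by
        rw [Sylow.coe_subgroup_smul]
        exact ⟨_, hxR, rfl⟩
      rw [hm] at h1
      exact h1
    have hmg : (m * g⁻¹) ∈ N := hDn _ fun B hB => by
      rw [← map_conj_mul]
      exact (Subgroup.map_mono (Subgroup.map_mono (le_sSup hB))).trans hmle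
    have h2 := hNz _ hmg
    have h3 : g⁻¹ * z = z * g⁻¹ := by
      have h4 := (hMz m).mp hm
      calc g⁻¹ * z = m⁻¹ * (m * g⁻¹ * z) := by group
        _ = m⁻¹ * (z * m) * g⁻¹ := by rw [h2]; group
        _ = z * g⁻¹ := by rw [h4]; group
    exact hg (by rw [mul_assoc, ← h3, mul_inv_cancel_left])
  -- the product of all conjugates
  letI : MulAction G ↥V := MulAction.compHom ↥V (MulAut.conjNormal : G →* MulAut ↥V)
  have hsmul : ∀ (g : G) (v : ↥V), g • v = MulAut.conjNormal g v := fun _ _ => rfl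
  set z₀ : ↥V := ⟨z, hzV⟩
  let X := MulAction.orbit G z₀
  haveI : Fintype ↥X := Fintype.ofFinite _
  set Tot : ↥V := ∏ x : ↥X, (x : ↥V)
  have hTot : ∀ g : G, MulAut.conjNormal g Tot = Tot := fun g => by
    rw [map_prod]
    exact Fintype.prod_equiv (MulAction.toPerm g) _ (fun x : ↥X => (x : ↥V)) fun x => rfl
  have hpow : ∀ v : ↥V, ((v ^ p : ↥V) : G) ∈ Subgroup.center G := by
    suffices h : V ≤ ((Subgroup.center G).comap (V.subtype.comp (powMonoidHom p))).map V.subtype from fun v => by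
      obtain ⟨w, hw, hwv⟩ := h v.2
      rw [← Subtype.ext (hwv : (w : G) = v)]
      exact hw
    refine (Subgroup.closure_le _).mpr fun x hx => ?_
    obtain ⟨y, hy, hyx⟩ := Group.mem_conjugatesOfSet_iff.mp hx
    obtain ⟨g, rfl⟩ := isConj_iff.mp hyx
    rw [Set.mem_singleton_iff.mp hy]
    refine ⟨⟨g * z * g⁻¹, Subgroup.subset_closure (by rwa [Set.mem_singleton_iff.mp hy] at hx)⟩, ?_, rfl⟩
    show (g * z * g⁻¹) ^ p ∈ Subgroup.center G
    rw [conj_pow]
    exact (inferInstance : (Subgroup.center G).Normal).conj_mem _ hzp g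
  -- orbits of `P`
  let e := MulAction.selfEquivSigmaOrbitsQuotientStabilizer ↥(P : Subgroup G) ↥X
  letI : Fintype (Quotient (MulAction.orbitRel ↥(P : Subgroup G) ↥X)) := Fintype.ofFinite _
  letI : ∀ ω : Quotient (MulAction.orbitRel ↥(P : Subgroup G) ↥X),
      Fintype (↥(P : Subgroup G) ⧸ MulAction.stabilizer ↥(P : Subgroup G) ω.out) := fun _ => Fintype.ofFinite _
  set x₀ : ↥X := ⟨z₀, MulAction.mem_orbit_self _⟩
  set ω₀ : Quotient (MulAction.orbitRel ↥(P : Subgroup G) ↥X) := Quotient.mk'' x₀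
  set f : Quotient (MulAction.orbitRel ↥(P : Subgroup G) ↥X) → ↥V := fun ω =>
    ∏ q : ↥(P : Subgroup G) ⧸ MulAction.stabilizer ↥(P : Subgroup G) ω.out, MulAut.conjNormal (q.out : G) (ω.out : ↥V)
  have hTot' : Tot = ∏ ω, f ω := by
    rw [show Tot = ∏ y, ((e.symm y : ↥X) : ↥V) from (e.symm.prod_comp (fun x : ↥X => (x : ↥V))).symm,
      Fintype.prod_sigma]
    refine Finset.prod_congr rfl fun ω _ => Finset.prod_congr rfl fun q _ => ?_
    conv_lhs => rw [← QuotientGroup.out_eq' q]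
    rfl
  have hfix₀ : ∀ s : ↥(P : Subgroup G), s • x₀ = x₀ := fun s => Subtype.ext (Subtype.ext (by
    show (s : G) * z * (s : G)⁻¹ = z
    rw [hzP s s.2, mul_inv_cancel_right]))
  have hf₀ : f ω₀ = z₀ := by
    have hout : ω₀.out = x₀ := by
      obtain ⟨s, hs⟩ := MulAction.mem_orbit_iff.mp (Quotient.exact' (Quotient.out_eq' ω₀))
      exact hs.symm.trans (hfix₀ s)
    have hst : MulAction.stabilizer ↥(P : Subgroup G) ω₀.out = ⊤ := by
      rw [hout]; exact eq_top_iff.mpr fun s _ => hfix₀ s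
    haveI : Subsingleton (↥(P : Subgroup G) ⧸ MulAction.stabilizer ↥(P : Subgroup G) ω₀.out) :=
      ⟨fun q q' => Quotient.inductionOn₂' q q' fun u v => QuotientGroup.eq.mpr (hst ▸ Subgroup.mem_top _)⟩
    show ∏ q, _ = z₀
    rw [Fintype.prod_subsingleton _ (QuotientGroup.mk 1 : ↥(P : Subgroup G) ⧸ MulAction.stabilizer ↥(P : Subgroup G) ω₀.out), hout]
    exact congrArg (fun x : ↥X => (x : ↥V)) (hfix₀ _)
  have hfne : ∀ ω, ω ≠ ω₀ → ∃ v : ↥V, f ω = v ^ p := by
    intro ω hω
    set x := ω.out with hx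
    have hne : (x : ↥V) ≠ z₀ := fun h => hω (by
      rw [← Quotient.out_eq' ω]
      exact congrArg Quotient.mk'' (Subtype.ext h))
    obtain ⟨g, hg⟩ := MulAction.mem_orbit_iff.mp x.2
    have hxg : ((x : ↥V) : G) = g * z * g⁻¹ := by rw [← hg]; rfl
    obtain ⟨B', hB', b, hb, hbne⟩ := hmoved g (fun h => hne (Subtype.ext (hxg.trans h)))
    set H := (MulAction.stabilizer ↥(P : Subgroup G) x).map (P : Subgroup G).subtype
    have hHeq : H.subgroupOf (P : Subgroup G) = MulAction.stabilizer ↥(P : Subgroup G) x :=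
      Subgroup.comap_map_eq_self_of_injective (P : Subgroup G).subtype_injective _
    have hHx : ∀ h ∈ H, MulAut.conjNormal h (x : ↥V) = x := by
      rintro _ ⟨s, hs, rfl⟩
      exact congrArg Subtype.val (MulAction.mem_stabilizer_iff.mp hs)
    have hB'H : ¬ B' ≤ H := fun h => hbne (by
      have h1 := conjNormal_eq_self_iff.mp (hHx b (h hb))
      rwa [hxg] at h1)
    letI : Fintype (↥(P : Subgroup G) ⧸ H.subgroupOf (P : Subgroup G)) := Fintype.ofFinite _
    obtain ⟨v, hv⟩ := exists_pow_prod (V := V) P.2 _ H rfl (Subgroup.map_subtype_le _) (x : ↥V) hHx ⟨B', hB'.1, hB'.2, hB'H⟩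
    refine ⟨v, ?_⟩
    rw [← hv]
    have hgen : ∀ (S' : Subgroup ↥(P : Subgroup G)) [Fintype (↥(P : Subgroup G) ⧸ S')],
        S' = MulAction.stabilizer ↥(P : Subgroup G) x →
        f ω = ∏ q : ↥(P : Subgroup G) ⧸ S', MulAut.conjNormal (q.out : G) (x : ↥V) := by
      intro S' _ hS'
      subst hS'
      exact Finset.prod_congr (Finset.ext fun _ => by simp) fun _ _ => rfl
    exact hgen _ hHeq
  have hrest : ((∏ ω ∈ Finset.univ.erase ω₀, f ω : ↥V) : G) ∈ Subgroup.center G := by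
    refine (Subgroup.prod_mem ((Subgroup.center G).comap V.subtype) fun ω hω => ?_ :
      (∏ ω ∈ Finset.univ.erase ω₀, f ω) ∈ (Subgroup.center G).comap V.subtype)
    obtain ⟨v, hv⟩ := hfne ω (Finset.ne_of_mem_erase hω)
    rw [hv]; exact hpow v
  rw [← Finset.mul_prod_erase _ _ (Finset.mem_univ ω₀), hf₀] at hTot'
  refine Subgroup.mem_center_iff.mpr fun g => ?_
  have h1 := hTot g
  rw [hTot', map_mul] at h1
  have h2 : MulAut.conjNormal g (∏ ω ∈ Finset.univ.erase ω₀, f ω) = ∏ ω ∈ Finset.univ.erase ω₀, f ω :=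
    conjNormal_eq_self_iff.mpr (Subgroup.mem_center_iff.mp hrest g)
  rw [h2] at h1
  exact conjNormal_eq_self_iff.mp (mul_right_cancel h1)

end Main

end CfsgLib.Glauberman
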