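import Cfsg.Agent.Lib.Glauberman.Replacement

/-! Thompson's replacement theorem for every prime. (helper6) -/

set_option autoImplicit false

namespace CfsgLib.Glauberman

open CfsgLib.ThompsonNPC
open scoped commutatorElement

variable {G : Type*} [Group G]

/-- **Thompson's replacement theorem**, for every prime. -/
theorem replacement_abelian [Finite G] {p : ℕ} [hp : Fact p.Prime]
    {P A B : Subgroup G} (hP : IsPGroup p P) (hAP : A ≤ P) (hBP : B ≤ P)
    (hBn : P ≤ Subgroup.normalizer (B : Set G))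
    (hBab : ∀ x ∈ B, ∀ y ∈ B, x * y = y * x)
    (hA : AbExp 0 A) (hne : ¬ B ≤ Subgroup.normalizer (A : Set G)) :
    ∃ A', A' ≤ A ⊔ B ∧ AbExp 0 A' ∧ Nat.card A ≤ Nat.card A' ∧ A ⊓ B < A' ⊓ B ∧
      A' ≤ Subgroup.normalizer (A : Set G) := by
  have hB2 : ∀ x ∈ B, ∀ y ∈ B, ∀ z ∈ B, ⁅x, y⁆ * z = z * ⁅x, y⁆ := fun x hx y hy z _ => by
    rw [commutatorElement_eq_one_iff_mul_comm.mpr (hBab x hx y hy), one_mul, mul_one]
  have hBA : ∀ x ∈ B, ∀ y ∈ B, ⁅x, y⁆ ∈ A := fun x hx y hy => by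
    rw [commutatorElement_eq_one_iff_mul_comm.mpr (hBab x hx y hy)]; exact one_mem A
  obtain ⟨x, hx, hxN, hu⟩ := exists_moved hP hAP hBP hBn hne
  set u : G → G := fun a => ⁅x, a⁆ with hudef
  set t : G → G → G := fun a b => (u b)⁻¹ * (a * u b * a⁻¹) with htdef
  have huB : ∀ a ∈ A, u a ∈ B := fun a ha => by
    show ⁅x, a⁆ ∈ B
    rw [commutatorElement_def, show x * a * x⁻¹ * a⁻¹ = x * (a * x⁻¹ * a⁻¹) by group]
    exact B.mul_mem hx ((Subgroup.mem_normalizer_iff.mp (hBn (hAP ha)) _).mp (B.inv_mem hx))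
  have hσ : ∀ a b, a * u b * a⁻¹ = u b * t a b := fun a b => by simp only [htdef]; group
  have htA : ∀ a ∈ A, ∀ b ∈ A, t a b ∈ A := fun a ha b hb => by
    have h1 := (Subgroup.mem_normalizer_iff.mp (inv_mem (hu b hb)) a).mp ha
    have h2 := A.mul_mem h1 (A.inv_mem ha)
    convert h2 using 1
    simp only [htdef, hudef]; group
  have htB : ∀ a ∈ A, ∀ b ∈ A, t a b ∈ B := fun a ha b hb =>
    B.mul_mem (B.inv_mem (huB b hb)) ((Subgroup.mem_normalizer_iff.mp (hBn (hAP ha)) _).mp (huB b hb))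
  have hx' : ∀ d, d * x * d⁻¹ = (u d)⁻¹ * x := fun d => by simp only [hudef, commutatorElement_def]; group
  -- commutators inside `B` are fixed by `A`
  have hfix : ∀ v ∈ B, ∀ w ∈ B, ∀ d ∈ A, ⁅d * v * d⁻¹, d * w * d⁻¹⁆ = ⁅v, w⁆ := by
    intro v hv w hw d hd
    rw [show ⁅d * v * d⁻¹, d * w * d⁻¹⁆ = d * ⁅v, w⁆ * d⁻¹ by simp only [commutatorElement_def]; group,
      hA.1 d hd _ (hBA v hv w hw), mul_inv_cancel_right]
  have hcen : ∀ v ∈ B, ∀ w ∈ B, ∀ z ∈ B, z * ⁅v, w⁆ * z⁻¹ = ⁅v, w⁆ := fun v hv w hw z hz => by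
    rw [← hB2 v hv w hw z hz, mul_inv_cancel_right]
  have hT : ∀ z ∈ A, z ∈ B → ∀ d ∈ A, u d * z = z * u d := by
    intro z hzA hzB d hd
    have h1 := hfix x hx z hzB d hd
    rw [hx' d, show d * z * d⁻¹ = z by rw [hA.1 d hd z hzA, mul_inv_cancel_right], comm_mul_left,
      hcen x hx z hzB _ (B.inv_mem (huB d hd))] at h1
    have h2 : Commute (u d)⁻¹ z := commutatorElement_eq_one_iff_commute.mp (mul_eq_left.mp h1)
    exact Commute.inv_left_iff.mp h2
  have hinvcomm : ∀ v ∈ B, ∀ w ∈ B, ⁅v⁻¹, w⁆ = ⁅v, w⁆⁻¹ := by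
    intro v hv w hw
    have h1 : ⁅v⁻¹ * v, w⁆ = 1 := by rw [inv_mul_cancel]; exact commutatorElement_one_left w
    rw [comm_mul_left, hcen v hv w hw _ (B.inv_mem hv)] at h1
    exact eq_inv_of_mul_eq_one_right h1
  have hc : ∀ a ∈ A, ∀ b ∈ A, ⁅x, t a b⁆ = ⁅u a, u b⁆ := by
    intro a ha b hb
    have hw := huB b hb
    have ht := htB a ha b hb
    have hv := B.inv_mem (huB a ha)
    have h1 := hfix x hx (u b) hw a ha
    have h2 : ⁅(u a)⁻¹, u b * t a b⁆ = ⁅u a, u b⁆⁻¹ := by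
      rw [comm_mul_right, hcen _ hv _ ht _ hw, hinvcomm _ (huB a ha) _ ht,
        commutatorElement_eq_one_iff_commute.mpr (show Commute (u a) (t a b) from hT _ (htA a ha b hb) ht a ha),
        inv_one, mul_one, hinvcomm _ (huB a ha) _ hw]
    rw [hx' a, hσ a b, comm_mul_left, hcen x hx _ (B.mul_mem hw ht) _ hv, h2, comm_mul_right,
      hcen x hx _ ht _ hw, mul_assoc] at h1
    exact mul_inv_eq_one.mp (mul_eq_left.mp h1)
  have huu : ∀ a ∈ A, ∀ b ∈ A, u (a * b) = u a * u b * t a b := by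
    intro a _ b _
    rw [mul_assoc, ← hσ]
    show ⁅x, a * b⁆ = ⁅x, a⁆ * (a * ⁅x, b⁆ * a⁻¹)
    exact comm_mul_right x a b
  have hswap : ∀ a ∈ A, ∀ b ∈ A, t b a = ⁅(u a)⁻¹, (u b)⁻¹⁆ * t a b := by
    intro a ha b hb
    have h1 := (huu a ha b hb).symm.trans ((congrArg u (hA.1 a ha b hb)).trans (huu b hb a ha))
    calc t b a = (u b * u a)⁻¹ * (u b * u a * t b a) := by group
      _ = (u b * u a)⁻¹ * (u a * u b * t a b) := by rw [h1]
      _ = _ := by simp only [commutatorElement_def]; group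
  have hcomm : ∀ a ∈ A, ∀ b ∈ A, u a * u b = u b * u a := fun a ha b hb => hBab _ (huB a ha) _ (huB b hb)
  have hts : ∀ a ∈ A, ∀ b ∈ A, t b a = t a b := by
    intro a ha b hb
    rw [hswap a ha b hb, commutatorElement_eq_one_iff_commute.mpr
      ((show Commute (u a) (u b) from hcomm a ha b hb).inv_inv), one_mul]
  set M := Subgroup.closure (u '' (A : Set G)) with hMdef
  have hMab : AbExp 0 M := by
    refine abExp_closure ?_ ?_
    · rintro _ ⟨a, ha, rfl⟩ _ ⟨b, hb, rfl⟩; exact hcomm a ha b hb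
    · rintro _ ⟨a, ha, rfl⟩
      exact pow_zero _
  set C := A ⊓ Subgroup.centralizer (M : Set G) with hCdef
  have hMB : M ≤ B := (Subgroup.closure_le _).mpr (by rintro _ ⟨a, ha, rfl⟩; exact huB a ha)
  have hMN : M ≤ Subgroup.normalizer (A : Set G) :=
    (Subgroup.closure_le _).mpr (by rintro _ ⟨a, ha, rfl⟩; exact hu a ha)
  have hab : AbExp 0 (M ⊔ C) :=
    abExp_sup hMab ⟨fun a ha b hb => hA.1 a ha.1 b hb.1, fun a ha => hA.2 a ha.1⟩
      fun m hm c hc => Subgroup.mem_centralizer_iff.mp hc.2 m hm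
  have hABC : A ⊓ B ≤ C := by
    rintro z ⟨hzA, hzB⟩
    refine ⟨hzA, ?_⟩
    have : M ≤ Subgroup.centralizer ({z} : Set G) := (Subgroup.closure_le _).mpr (by
      rintro _ ⟨d, hd, rfl⟩
      exact Subgroup.mem_centralizer_iff.mpr fun y hy => by
        rw [Set.mem_singleton_iff.mp hy]; exact (hT z hzA hzB d hd).symm)
    exact Subgroup.mem_centralizer_iff.mpr fun m hm =>
      (Subgroup.mem_centralizer_iff.mp (this hm) z rfl).symm
  obtain ⟨a₀, ha₀, hua₀⟩ : ∃ a ∈ A, u a ∉ A := by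
    by_contra hc'
    push_neg at hc'
    refine hxN (mem_normalizer_of_conj_mem fun a ha => ?_)
    have := A.mul_mem (hc' a ha) ha
    convert this using 1
    simp only [hudef, commutatorElement_def]; group
  have hcard : Nat.card A ≤ Nat.card ↥(M ⊔ C) := by
    let r : ↥A → ↥A := fun a => (QuotientGroup.mk a : ↥A ⧸ C.subgroupOf A).out
    have hmkr : ∀ a : ↥A, (QuotientGroup.mk (r a) : ↥A ⧸ C.subgroupOf A) = QuotientGroup.mk a :=
      fun a => Quotient.out_eq _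
    have hr : ∀ a : ↥A, ((r a : ↥A) : G)⁻¹ * a ∈ C := fun a => (QuotientGroup.eq (s := C.subgroupOf A)).mp (hmkr a)
    have hinj : Function.Injective (fun q : ↥A × ↥(M ⊓ A) =>
        ((⟨u (r q.1) * q.2, M.mul_mem (Subgroup.subset_closure ⟨r q.1, (r q.1).2, rfl⟩) q.2.2.1⟩ : ↥M),
          (⟨_, hr q.1⟩ : ↥C))) := by
      rintro ⟨a, m⟩ ⟨b, n⟩ hq
      obtain ⟨h1, h2⟩ := Prod.mk.injEq _ _ _ _ |>.mp hq
      have h1' : u (r a) * m = u (r b) * n := congrArg Subtype.val h1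
      have h2' : ((r a : ↥A) : G)⁻¹ * a = ((r b : ↥A) : G)⁻¹ * b := congrArg Subtype.val h2
      set d := ((r a : ↥A) : G)⁻¹ * (r b : ↥A) with hd
      have hdA : d ∈ A := A.mul_mem (A.inv_mem (r a).2) (r b).2
      have hud : u d ∈ A := by
        have h3 : u ((r b : ↥A) : G) = u (r a) * u d * t (r a) d := by
          rw [← huu _ (r a).2 _ hdA, hd, mul_inv_cancel_left]
        have h4 : u d * t (r a) d = (m : G) * (n : G)⁻¹ := by
          calc u d * t (r a) d = (u (r a))⁻¹ * (u (r b) * n) * (n : G)⁻¹ := by rw [h3]; group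
            _ = _ := by rw [← h1']; group
        have h5 := A.mul_mem (A.mul_mem m.2.2 (A.inv_mem n.2.2)) (A.inv_mem (htA _ (r a).2 d hdA))
        rwa [← h4, mul_inv_cancel_right] at h5
      have hdC : d ∈ C := by
        refine ⟨hdA, ?_⟩
        have : M ≤ Subgroup.centralizer ({d} : Set G) := (Subgroup.closure_le _).mpr (by
          rintro _ ⟨c, hc'', rfl⟩
          refine Subgroup.mem_centralizer_iff.mpr fun y hy => ?_
          rw [Set.mem_singleton_iff.mp hy]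
          have h6 : t d c = 1 := by
            rw [hts c hc'' d hdA]
            show (u d)⁻¹ * (c * u d * c⁻¹) = 1
            rw [hA.1 c hc'' _ hud, mul_inv_cancel_right, inv_mul_cancel]
          have h7 := hσ d c
          rw [h6, mul_one] at h7
          exact mul_inv_eq_iff_eq_mul.mp h7)
        exact Subgroup.mem_centralizer_iff.mpr fun m hm =>
          (Subgroup.mem_centralizer_iff.mp (this hm) d rfl).symm
      have hrab : r a = r b := by
        have h8 : (QuotientGroup.mk (r a) : ↥A ⧸ C.subgroupOf A) = QuotientGroup.mk (r b) := QuotientGroup.eq.mpr hdC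
        exact congrArg Quotient.out ((hmkr a).symm.trans (h8.trans (hmkr b)))
      rw [hrab] at h1' h2'
      exact Prod.ext (Subtype.ext (mul_left_cancel h2')) (Subtype.ext (mul_left_cancel h1'))
    have h9 := Nat.card_le_card_of_injective _ hinj
    have hMC : Nat.card ↥M * Nat.card ↥C ≤ Nat.card ↥(M ⊔ C) * Nat.card ↥(M ⊓ A) := by
      rw [← Nat.card_prod, ← Nat.card_prod]
      classical
      have hsplit : ∀ v : ↥(M ⊔ C), (∃ q : ↥M × ↥C, (q.1 : G) * q.2 = v) → ↥M × ↥C := fun v h => h.choose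
      let F : ↥M × ↥C → ↥(M ⊔ C) := fun q =>
        ⟨(q.1 : G) * q.2, mul_mem ((le_sup_left : M ≤ M ⊔ C) q.1.2) ((le_sup_right : C ≤ M ⊔ C) q.2.2)⟩
      let R : ↥M × ↥C → ↥M × ↥C := fun q => Function.invFun F (F q)
      have hFR : ∀ q, F (R q) = F q := fun q => Function.invFun_eq ⟨q, rfl⟩
      have hmem : ∀ q : ↥M × ↥C, ((R q).1 : G)⁻¹ * q.1 ∈ M ⊓ A := fun q => by
        refine ⟨M.mul_mem (M.inv_mem (R q).1.2) q.1.2, ?_⟩
        have h1 : ((R q).1 : G) * (R q).2 = q.1 * q.2 := congrArg Subtype.val (hFR q)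
        rw [show ((R q).1 : G)⁻¹ * q.1 = (R q).2 * (q.2 : G)⁻¹ by
          rw [eq_mul_inv_iff_mul_eq, mul_assoc, ← h1, inv_mul_cancel_left]]
        exact A.mul_mem (R q).2.2.1 (A.inv_mem q.2.2.1)
      refine Nat.card_le_card_of_injective (fun q => (F q, (⟨_, hmem q⟩ : ↥(M ⊓ A)))) ?_
      intro q q' hq
      obtain ⟨h1, h2⟩ := Prod.mk.injEq _ _ _ _ |>.mp hq
      have h2' : ((R q).1 : G)⁻¹ * q.1 = ((R q').1 : G)⁻¹ * q'.1 := congrArg Subtype.val h2
      rw [show R q = R q' from congrArg (Function.invFun F) h1] at h2'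
      have h3 : q.1 = q'.1 := Subtype.ext (mul_left_cancel h2')
      refine Prod.ext h3 (Subtype.ext ?_)
      have h4 : (q.1 : G) * q.2 = q'.1 * q'.2 := congrArg Subtype.val h1
      rw [h3] at h4
      exact mul_left_cancel h4
    rw [Nat.card_prod] at h9
    rw [Nat.card_prod] at h9
    exact Nat.le_of_mul_le_mul_right (h9.trans hMC) Nat.card_pos
  refine ⟨M ⊔ C, sup_le (hMB.trans le_sup_right) (inf_le_left.trans le_sup_left), hab, hcard,
    lt_of_le_of_ne (le_inf (hABC.trans le_sup_right) inf_le_right) fun h => hua₀ ?_,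
    sup_le hMN (inf_le_left.trans Subgroup.le_normalizer)⟩
  have : u a₀ ∈ A ⊓ B := h.ge ⟨(le_sup_left : M ≤ M ⊔ C) (Subgroup.subset_closure ⟨a₀, ha₀, rfl⟩), huB a₀ ha₀⟩
  exact this.1

/-- Some member of `maxAb 0` outside `Q` is normalized by the abelian normal `V ≤ Q`, or centralizes it. -/
theorem exists_quadratic_maxAb [Finite G] {p : ℕ} [Fact p.Prime] (P : Sylow p G) {V Q : Subgroup G} [V.Normal]
    (hVQ : V ≤ Q) (hQP : Q ≤ (P : Subgroup G)) (hVc : ∀ v ∈ V, ∀ q ∈ Q, q * v = v * q)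
    (h : ∃ A ∈ maxAb 0 (P : Subgroup G), ¬ A ≤ Q) :
    ∃ A ∈ maxAb 0 (P : Subgroup G), ¬ A ≤ Q ∧ ⁅⁅V, A⁆, A⁆ = ⊥ := by
  obtain ⟨A₁, hA₁, hA₁Q⟩ := h
  obtain ⟨A, ⟨hA, hAQ⟩, hmax⟩ := Set.exists_max_image {A | A ∈ maxAb 0 (P : Subgroup G) ∧ ¬ A ≤ Q}
    (fun A => Nat.card ↥(A ⊓ V)) (Set.toFinite _) ⟨A₁, hA₁, hA₁Q⟩
  have hquad : V ≤ Subgroup.normalizer (A : Set G) → ⁅⁅V, A⁆, A⁆ = ⊥ := fun hVA => by
    rw [Subgroup.commutator_eq_bot_iff_le_centralizer]
    have h1 : ⁅V, A⁆ ≤ A := Subgroup.commutator_le.mpr fun v hv a ha => by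
      rw [commutatorElement_def]
      exact A.mul_mem ((Subgroup.mem_normalizer_iff.mp (hVA hv) a).mp ha) (A.inv_mem ha)
    exact fun x hx => Subgroup.mem_centralizer_iff.mpr fun a ha => hA.2.1.1 a ha x (h1 hx)
  by_cases hVA : V ≤ Subgroup.normalizer (A : Set G)
  · exact ⟨A, hA, hAQ, hquad hVA⟩
  have hVP : V ≤ (P : Subgroup G) := hVQ.trans hQP
  obtain ⟨A', hle, hab, hcard, hlt, hN⟩ := replacement_abelian P.2 hA.1 hVP
    (fun x _ => by rw [Subgroup.normalizer_eq_top_iff.mpr ‹V.Normal›]; trivial)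
    (fun x hx y hy => (hVc y hy x (hVQ hx))) hA.2.1 hVA
  have hA' : A' ∈ maxAb 0 (P : Subgroup G) :=
    ⟨hle.trans (sup_le hA.1 hVP), hab, fun C hC hCab => (hA.2.2 C hC hCab).trans hcard⟩
  by_cases hA'Q : A' ≤ Q
  · refine absurd ?_ hVA
    refine (show V ≤ A' from fun v hv => ?_).trans hN
    set E := A' ⊔ Subgroup.zpowers v
    have hEab : AbExp 0 E := abExp_sup hab
      ⟨fun x hx y hy => by
        obtain ⟨i, rfl⟩ := Subgroup.mem_zpowers_iff.mp hx
        obtain ⟨j, rfl⟩ := Subgroup.mem_zpowers_iff.mp hy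
        exact zpow_mul_comm v i j, fun x _ => pow_zero x⟩
      fun a ha y hy => by
        obtain ⟨i, rfl⟩ := Subgroup.mem_zpowers_iff.mp hy
        exact ((show Commute a v from hVc v hv a (hA'Q ha)).zpow_right i).eq
    have hle' : Nat.card ↥E ≤ Nat.card ↥A' :=
      hA'.2.2 E (sup_le hA'.1 (Subgroup.zpowers_le.mpr (hVP hv))) hEab
    rw [show A' = E from Subgroup.eq_of_le_of_card_ge le_sup_left hle']
    exact Subgroup.mem_sup_right (Subgroup.mem_zpowers v)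
  · exact absurd (Subgroup.eq_of_le_of_card_ge (le_of_lt hlt) (hmax A' ⟨hA', hA'Q⟩)) hlt.ne

end CfsgLib.Glauberman
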